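import Groth.Agent.FibLib.Basic
import Groth.Prelude.Def_LiftSq

/-!
# Lifting against a faithful functor in terms of the presheaf of lifts of objects
-/

set_option autoImplicit false
set_option backward.isDefEq.respectTransparency false
set_option backward.isDefEq.respectTransparency.types false

universe v₅ u₅ v₄ u₄ v₃ u₃ v₂ u₂ v u

open CategoryTheory FibCat FibLib Opposite
open CategoryTheory.Functor (IsStronglyCartesian)

noncomputable section

namespace LiftAffLib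

section Fibred

variable {C : Type u} [Category.{v} C] {X : Type u₂} [Category.{v₂} X] (p : X ⥤ C) [IsFibGrpd p]

theorem exists_fac {a b c : X} (φ : a ⟶ c) (ψ : b ⟶ c) (g : p.obj a ⟶ p.obj b)
    (h : g ≫ p.map ψ = p.map φ) : ∃ χ : a ⟶ b, p.map χ = g ∧ χ ≫ ψ = φ := by
  haveI := IsFibGrpd.isStronglyCartesian (p := p) ψ
  haveI : p.IsHomLift (p.map φ) φ := IsHomLift.map _ _
  refine ⟨IsStronglyCartesian.map p (p.map ψ) ψ h.symm φ, ?_, IsStronglyCartesian.fac _ _ _ _ _⟩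
  have := IsHomLift.fac' p g (IsStronglyCartesian.map p (p.map ψ) ψ h.symm φ)
  simpa using this

theorem hom_ext' {a b c : X} (ψ : b ⟶ c) (χ χ' : a ⟶ b) (h : p.map χ = p.map χ')
    (h' : χ ≫ ψ = χ' ≫ ψ) : χ = χ' := by
  haveI := IsFibGrpd.isStronglyCartesian (p := p) ψ
  haveI : p.IsHomLift (p.map χ) χ := IsHomLift.map _ _
  haveI : p.IsHomLift (p.map χ) χ' := h ▸ IsHomLift.map _ _
  exact IsStronglyCartesian.ext p (p.map ψ) ψ (p.map χ) h'

theorem exists_map {a : X} {T : C} (g : T ⟶ p.obj a) :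
    ∃ (b : X) (φ : b ⟶ a) (hb : p.obj b = T), p.map φ = eqToHom hb ≫ g := by
  obtain ⟨b, φ, hφ⟩ := IsFibGrpd.exists_lift (p := p) g
  refine ⟨b, φ, IsHomLift.domain_eq p g φ, ?_⟩
  rw [IsHomLift.fac' p g φ]; simp

theorem isIso_of_map {a b : X} (φ : a ⟶ b) [IsIso (p.map φ)] : IsIso φ :=
  haveI : p.IsHomLift (p.map φ) φ := IsHomLift.map _ _
  isIso_of_isHomLift p (p.map φ) φ

end Fibred

variable {C : Type u} [Category.{v} C] {𝒳 : BasedCategory.{v₂, u₂} C} {𝒴 : BasedCategory.{v₃, u₃} C}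

theorem map_base (f : 𝒳 ⥤ᵇ 𝒴) {a b : 𝒳.obj} (φ : a ⟶ b) :
    𝒴.p.map (f.map φ) = eqToHom (f.w_obj a) ≫ 𝒳.p.map φ ≫ eqToHom (f.w_obj b).symm :=
  CategoryTheory.Functor.congr_hom f.w φ

/-- A lift of an object along a functor, up to a vertical isomorphism. -/
structure SecObj (f : 𝒳 ⥤ᵇ 𝒴) (y : 𝒴.obj) where
  x : 𝒳.obj
  hom : y ⟶ f.obj x
  eq : 𝒴.p.obj y = 𝒴.p.obj (f.obj x)
  base : 𝒴.p.map hom = eqToHom eq

variable (f : 𝒳 ⥤ᵇ 𝒴) [IsFibGrpd 𝒳.p] [IsFibGrpd 𝒴.p]

instance {y : 𝒴.obj} (σ : SecObj f y) : IsIso σ.hom := by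
  haveI : IsIso (𝒴.p.map σ.hom) := by rw [σ.base]; infer_instance
  exact isIso_of_map 𝒴.p σ.hom

/-- `σ'` is the restriction of `σ` along `φ`. -/
def SecRel {y y' : 𝒴.obj} (φ : y' ⟶ y) (σ' : SecObj f y') (σ : SecObj f y) : Prop :=
  ∃ ψ : σ'.x ⟶ σ.x, σ'.hom ≫ f.map ψ = φ ≫ σ.hom

variable {f}

theorem SecRel.rfl' {y : 𝒴.obj} (σ : SecObj f y) : SecRel f (𝟙 y) σ σ := ⟨𝟙 _, by simp⟩

theorem SecRel.trans {y y' y'' : 𝒴.obj} {φ' : y'' ⟶ y'} {φ : y' ⟶ y} {a : SecObj f y''} {b : SecObj f y'}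
    {c : SecObj f y} (h' : SecRel f φ' a b) (h : SecRel f φ b c) : SecRel f (φ' ≫ φ) a c := by
  obtain ⟨ψ', e'⟩ := h'
  obtain ⟨ψ, e⟩ := h
  exact ⟨ψ' ≫ ψ, by rw [f.toFunctor.map_comp, reassoc_of% e', e, Category.assoc]⟩

theorem SecRel.symm {y : 𝒴.obj} {a b : SecObj f y} (h : SecRel f (𝟙 y) a b) : SecRel f (𝟙 y) b a := by
  obtain ⟨ψ, e⟩ := h
  have e' : f.map ψ = inv a.hom ≫ b.hom := by simpa using congrArg (inv a.hom ≫ ·) e
  haveI h0 : IsIso (f.map ψ) := by rw [e']; infer_instance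
  haveI : IsIso (𝒳.p.map ψ) := by
    haveI : IsIso (eqToHom (f.w_obj a.x) ≫ 𝒳.p.map ψ ≫ eqToHom (f.w_obj b.x).symm) := by
      rw [← map_base]; infer_instance
    haveI := IsIso.of_isIso_comp_left (eqToHom (f.w_obj a.x)) (𝒳.p.map ψ ≫ eqToHom (f.w_obj b.x).symm)
    exact IsIso.of_isIso_comp_right (𝒳.p.map ψ) (eqToHom (f.w_obj b.x).symm)
  haveI := isIso_of_map 𝒳.p ψ
  exact ⟨inv ψ, by rw [f.toFunctor.map_inv]; simp [e']⟩

theorem SecRel.unique {y y' : 𝒴.obj} {φ : y' ⟶ y} {a a' : SecObj f y'} {b : SecObj f y}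
    (h : SecRel f φ a b) (h' : SecRel f φ a' b) : SecRel f (𝟙 y') a a' := by
  obtain ⟨ψ, e⟩ := h
  obtain ⟨ψ', e'⟩ := h'
  have k := congrArg 𝒴.p.map e
  have k' := congrArg 𝒴.p.map e'
  rw [Functor.map_comp, a.base, map_base f, ← Category.assoc, eqToHom_trans, eqToHom_comp_iff] at k
  rw [Functor.map_comp, a'.base, map_base f, ← Category.assoc, eqToHom_trans, eqToHom_comp_iff,
    comp_eqToHom_iff] at k'
  rw [comp_eqToHom_iff] at k
  obtain ⟨θ, hθ, hθ'⟩ := exists_fac 𝒳.p ψ ψ'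
    (eqToHom (((f.w_obj a.x).symm.trans a.eq.symm).trans (a'.eq.trans (f.w_obj a'.x)))) (by rw [k, k']; simp)
  refine ⟨θ, ?_⟩
  apply hom_ext' 𝒴.p (f.map ψ')
  · rw [Category.id_comp, Functor.map_comp, a.base, a'.base, map_base f, hθ]; simp
  · rw [Category.assoc, ← f.toFunctor.map_comp, hθ', e, Category.id_comp, e']

variable (f) in
theorem exists_rel {y y' : 𝒴.obj} (φ : y' ⟶ y) (σ : SecObj f y) :
    ∃ σ' : SecObj f y', SecRel f φ σ' σ := by
  obtain ⟨x', ψ, hx', hψ⟩ := exists_map 𝒳.p (a := σ.x) (T := 𝒴.p.obj y')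
    (𝒴.p.map φ ≫ eqToHom (σ.eq.trans (f.w_obj σ.x)))
  obtain ⟨ι, hι, hι'⟩ := exists_fac 𝒴.p (φ ≫ σ.hom) (f.map ψ)
    (eqToHom (hx'.symm.trans (f.w_obj x').symm)) (by
      rw [map_base f, hψ, Functor.map_comp, σ.base]; simp)
  exact ⟨⟨x', ι, _, hι⟩, ψ, hι'⟩

instance secSetoid (y : 𝒴.obj) : Setoid (SecObj f y) where
  r := SecRel f (𝟙 y)
  iseqv := ⟨SecRel.rfl', SecRel.symm, fun h h' => by simpa using h.trans h'⟩

variable (f) in
/-- Lifts of an object up to vertical isomorphism. -/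
def Sec (y : 𝒴.obj) : Type _ := Quotient (secSetoid (f := f) y)

/-- The class of a lift. -/
def SecObj.cls {y : 𝒴.obj} (σ : SecObj f y) : Sec f y := Quotient.mk _ σ

theorem cls_eq_iff {y : 𝒴.obj} {a b : SecObj f y} : a.cls = b.cls ↔ SecRel f (𝟙 y) a b := Quotient.eq

theorem cls_surjective {y : 𝒴.obj} (s : Sec f y) : ∃ σ : SecObj f y, σ.cls = s := Quotient.exists_rep s

variable (f) in
/-- Restriction of lifts along a morphism. -/
def secRes {y y' : 𝒴.obj} (φ : y' ⟶ y) : Sec f y → Sec f y' :=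
  Quotient.lift (fun σ => (exists_rel f φ σ).choose.cls) fun a b h => by
    refine cls_eq_iff.2 (SecRel.unique (φ := φ) (b := b) ?_ (exists_rel f φ b).choose_spec)
    simpa using (exists_rel f φ a).choose_spec.trans h

theorem secRes_cls_iff {y y' : 𝒴.obj} {φ : y' ⟶ y} {σ : SecObj f y} {σ' : SecObj f y'} :
    secRes f φ σ.cls = σ'.cls ↔ SecRel f φ σ' σ := by
  constructor
  · intro h
    simpa using (cls_eq_iff.1 h.symm).trans (exists_rel f φ σ).choose_spec
  · intro h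
    exact cls_eq_iff.2 ((exists_rel f φ σ).choose_spec.unique h)

variable (f) in
/-- The presheaf of lifts. -/
def secPsh : 𝒴.objᵒᵖ ⥤ Type _ where
  obj y := Sec f y.unop
  map φ := ↾(secRes f φ.unop)
  map_id y := by
    ext s
    obtain ⟨σ, rfl⟩ := cls_surjective s
    exact secRes_cls_iff.2 (SecRel.rfl' σ)
  map_comp {a b c} φ ψ := by
    ext s
    obtain ⟨σ, rfl⟩ := cls_surjective s
    obtain ⟨τ, hτ⟩ := exists_rel f φ.unop σ
    obtain ⟨υ, hυ⟩ := exists_rel f ψ.unop τ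
    change secRes f (ψ.unop ≫ φ.unop) σ.cls = secRes f ψ.unop (secRes f φ.unop σ.cls)
    rw [secRes_cls_iff.2 hτ, secRes_cls_iff.2 hυ, secRes_cls_iff]
    exact hυ.trans hτ

theorem secPsh_map {y y' : 𝒴.obj} (φ : y' ⟶ y) (σ : SecObj f y) (σ' : SecObj f y') :
    (secPsh f).map φ.op σ.cls = σ'.cls ↔ SecRel f φ σ' σ := secRes_cls_iff

section Lift

variable {𝒜 : BasedCategory.{v₄, u₄} C} {ℬ : BasedCategory.{v₅, u₅} C} {j : 𝒜 ⥤ᵇ ℬ}

omit [IsFibGrpd 𝒳.p] [IsFibGrpd 𝒴.p] in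
theorem nat_base {F G : 𝒜 ⥤ᵇ 𝒴} (α : F ⟶ G) (a : 𝒜.obj) :
    ∃ h, 𝒴.p.map (α.toNatTrans.app a) = eqToHom h := by
  haveI := α.isHomLift' a
  refine ⟨(F.w_obj a).trans (G.w_obj a).symm, ?_⟩
  rw [IsHomLift.fac' 𝒴.p (𝟙 (𝒜.p.obj a)) (α.toNatTrans.app a)]
  simp

omit [IsFibGrpd 𝒳.p] [IsFibGrpd 𝒴.p] in
theorem isHomLift_of_base {T : BasedCategory.{v₂, u₂} C} {a b : T.obj} {U : C} (θ : a ⟶ b)
    (ha : T.p.obj a = U) (h : T.p.obj a = T.p.obj b) (hθ : T.p.map θ = eqToHom h) :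
    T.p.IsHomLift (𝟙 U) θ :=
  IsHomLift.of_fac' _ _ _ ha (h.symm.trans ha) (by simp [hθ])

theorem base_of_vert {y : 𝒴.obj} {a b : SecObj f y} (θ : a.x ⟶ b.x) (e : a.hom ≫ f.map θ = b.hom) :
    ∃ h, 𝒳.p.map θ = eqToHom h := by
  have k := congrArg 𝒴.p.map e
  rw [Functor.map_comp, a.base, b.base, map_base f, ← Category.assoc, eqToHom_trans, eqToHom_comp_iff,
    comp_eqToHom_iff] at k
  simp only [eqToHom_trans] at k
  exact ⟨_, k⟩

/-- If compatible families of lifts exist and are unique, the functor lifts uniquely. -/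
theorem liftsUniquely_of_sections [f.toFunctor.Faithful]
    (H : ∀ (bot : ℬ ⥤ᵇ 𝒴) (c₀ : ∀ a : 𝒜.obj, Sec f (bot.obj (j.obj a))),
      (∀ (a a' : 𝒜.obj) (k : a ⟶ a'), secRes f (bot.map (j.map k)) (c₀ a') = c₀ a) →
      ∃! c : ∀ b : ℬ.obj, Sec f (bot.obj b),
        (∀ (b b' : ℬ.obj) (k : b ⟶ b'), secRes f (bot.map k) (c b') = c b) ∧ ∀ a, c (j.obj a) = c₀ a) :
    LiftSq.LiftsUniquely j f := by
  intro sq
  let σ₀ : ∀ a, SecObj f (sq.bot.obj (j.obj a)) := fun a =>
    ⟨sq.top.obj a, sq.iso.hom.toNatTrans.app a, _, (nat_base sq.iso.hom a).choose_spec⟩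
  have hσ₀ : ∀ (a a' : 𝒜.obj) (k : a ⟶ a'),
      secRes f (sq.bot.map (j.map k)) (σ₀ a').cls = (σ₀ a).cls := fun a a' k =>
    secRes_cls_iff.2 ⟨sq.top.map k, (sq.iso.hom.toNatTrans.naturality k).symm⟩
  obtain ⟨c, ⟨hc, hc₀⟩, huniq⟩ := H sq.bot (fun a => (σ₀ a).cls) hσ₀
  refine ⟨?_, fun d d' => ?_⟩
  · choose σ hσ using fun b => cls_surjective (c b)
    have hψ : ∀ (b b' : ℬ.obj) (k : b ⟶ b'), ∃ ψ : (σ b).x ⟶ (σ b').x,
        (σ b).hom ≫ f.map ψ = sq.bot.map k ≫ (σ b').hom := fun b b' k =>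
      secRes_cls_iff.1 (by rw [hσ, hσ]; exact hc b b' k)
    choose ψ hψ using hψ
    let L : ℬ.obj ⥤ 𝒳.obj :=
      { obj := fun b => (σ b).x
        map := fun {b b'} k => ψ b b' k
        map_id := fun b => f.toFunctor.map_injective (by
          rw [← cancel_epi (σ b).hom, hψ, sq.bot.toFunctor.map_id, Category.id_comp,
            f.toFunctor.map_id, Category.comp_id])
        map_comp := fun {b b' b''} k k' => f.toFunctor.map_injective (by
          rw [← cancel_epi (σ b).hom, hψ, sq.bot.toFunctor.map_comp, f.toFunctor.map_comp,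
            reassoc_of% (hψ b b' k), hψ b' b'' k', Category.assoc]) }
    have hw : ∀ b, 𝒳.p.obj (σ b).x = ℬ.p.obj b := fun b =>
      ((f.w_obj _).symm.trans (σ b).eq.symm).trans (sq.bot.w_obj b)
    let fn : ℬ ⥤ᵇ 𝒳 :=
      { toFunctor := L
        w := CategoryTheory.Functor.ext hw fun b b' k => by
          have e := congrArg 𝒴.p.map (hψ b b' k)
          rw [Functor.map_comp, Functor.map_comp, (σ b).base, (σ b').base, map_base f, map_base sq.bot,
            ← Category.assoc, eqToHom_trans, eqToHom_comp_iff, comp_eqToHom_iff] at e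
          change 𝒳.p.map (ψ b b' k) = _
          rw [e]; simp }
    let ι : sq.bot ⟶ BasedFunctor.comp fn f :=
      { toNatTrans := { app := fun b => (σ b).hom, naturality := fun b b' k => (hψ b b' k).symm }
        isHomLift' := fun b => isHomLift_of_base _ (sq.bot.w_obj b) _ (σ b).base }
    let ι' : BasedFunctor.comp fn f ⟶ sq.bot :=
      { toNatTrans :=
          { app := fun b => inv (σ b).hom
            naturality := fun b b' k => by
              rw [IsIso.comp_inv_eq, Category.assoc, IsIso.eq_inv_comp]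
              exact hψ b b' k }
        isHomLift' := fun b => isHomLift_of_base _ ((BasedFunctor.comp fn f).w_obj b) (σ b).eq.symm
          (by rw [Functor.map_inv]; simp [(σ b).base]) }
    have hθ : ∀ a, ∃ θ : (σ (j.obj a)).x ⟶ sq.top.obj a,
        (σ (j.obj a)).hom ≫ f.map θ = (σ₀ a).hom := fun a => by
      have := cls_eq_iff.1 ((hσ (j.obj a)).trans (hc₀ a))
      obtain ⟨θ, e⟩ := this
      exact ⟨θ, e.trans (Category.id_comp _)⟩
    choose θ hθ using hθ
    haveI : ∀ a, IsIso (θ a) := fun a => by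
      obtain ⟨h, e⟩ := base_of_vert (a := σ (j.obj a)) (b := σ₀ a) (θ a) (hθ a)
      haveI : IsIso (𝒳.p.map (θ a)) := by rw [e]; infer_instance
      exact isIso_of_map 𝒳.p _
    have hnat : ∀ (a a' : 𝒜.obj) (k : a ⟶ a'), ψ _ _ (j.map k) ≫ θ a' = θ a ≫ sq.top.map k :=
      fun a a' k => f.toFunctor.map_injective (by
        rw [← cancel_epi (σ (j.obj a)).hom, f.toFunctor.map_comp, f.toFunctor.map_comp,
          reassoc_of% (hψ _ _ (j.map k)), hθ a', reassoc_of% (hθ a)]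
        exact sq.iso.hom.toNatTrans.naturality k)
    let Θ : BasedFunctor.comp j fn ⟶ sq.top :=
      { toNatTrans := { app := θ, naturality := hnat }
        isHomLift' := fun a => by
          obtain ⟨h, e⟩ := base_of_vert (a := σ (j.obj a)) (b := σ₀ a) (θ a) (hθ a)
          exact isHomLift_of_base _ ((BasedFunctor.comp j fn).w_obj a) h e }
    let Θ' : sq.top ⟶ BasedFunctor.comp j fn :=
      { toNatTrans :=
          { app := fun a => inv (θ a)
            naturality := fun a a' k => by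
              rw [IsIso.comp_inv_eq, Category.assoc, IsIso.eq_inv_comp]
              exact (hnat a a' k).symm }
        isHomLift' := fun a => by
          obtain ⟨h, e⟩ := base_of_vert (a := σ (j.obj a)) (b := σ₀ a) (θ a) (hθ a)
          exact isHomLift_of_base _ (sq.top.w_obj a) h.symm (by rw [Functor.map_inv]; simp [e]) }
    refine ⟨{
      fn := fn
      isoTop := ⟨Θ, Θ', ?_, ?_⟩
      isoBot := ⟨ι, ι', ?_, ?_⟩
      w := ?_ }⟩
    all_goals apply BasedNatTrans.homCategory.ext; ext a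
    · exact IsIso.hom_inv_id (θ a)
    · exact IsIso.inv_hom_id (θ a)
    · exact IsIso.hom_inv_id (σ a).hom
    · exact IsIso.inv_hom_id (σ a).hom
    · exact hθ a
  · let s : ∀ (e : sq.Lift) (b : ℬ.obj), SecObj f (sq.bot.obj b) := fun e b =>
      ⟨e.fn.obj b, e.isoBot.hom.toNatTrans.app b, _, (nat_base e.isoBot.hom b).choose_spec⟩
    have hw : ∀ (e : sq.Lift) (a : 𝒜.obj),
        e.isoBot.hom.toNatTrans.app (j.obj a) ≫ f.map (e.isoTop.hom.toNatTrans.app a) =
          sq.iso.hom.toNatTrans.app a := fun e a =>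
      congrArg (fun α : BasedFunctor.comp j sq.bot ⟶ BasedFunctor.comp sq.top f => α.toNatTrans.app a) e.w
    have hs : ∀ e, (fun b => (s e b).cls) = c := fun e => huniq _
      ⟨fun b b' k => secRes_cls_iff.2 ⟨e.fn.map k, (e.isoBot.hom.toNatTrans.naturality k).symm⟩,
        fun a => cls_eq_iff.2 ⟨e.isoTop.hom.toNatTrans.app a, (hw e a).trans (Category.id_comp _).symm⟩⟩
    have hθ : ∀ b, ∃ θ : (s d b).x ⟶ (s d' b).x, (s d b).hom ≫ f.map θ = (s d' b).hom := fun b => by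
      obtain ⟨θ, e⟩ := cls_eq_iff.1 (congrFun ((hs d).trans (hs d').symm) b)
      exact ⟨θ, e.trans (Category.id_comp _)⟩
    choose θ hθ using hθ
    let Θ : d.fn ⟶ d'.fn :=
      { toNatTrans :=
          { app := θ
            naturality := fun b b' k => f.toFunctor.map_injective (by
              rw [← cancel_epi (s d b).hom, f.toFunctor.map_comp, f.toFunctor.map_comp,
                reassoc_of% (hθ b)]
              have n1 : (s d b).hom ≫ f.map (d.fn.map k) = sq.bot.map k ≫ (s d b').hom :=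
                (d.isoBot.hom.toNatTrans.naturality k).symm
              have n2 : (s d' b).hom ≫ f.map (d'.fn.map k) = sq.bot.map k ≫ (s d' b').hom :=
                (d'.isoBot.hom.toNatTrans.naturality k).symm
              rw [reassoc_of% n1, hθ b', n2]) }
        isHomLift' := fun b => by
          obtain ⟨h, e⟩ := base_of_vert (a := s d b) (b := s d' b) (θ b) (hθ b)
          exact isHomLift_of_base _ (d.fn.w_obj b) h e }
    have htop : BasedCategory.whiskerLeft j Θ ≫ d'.isoTop.hom = d.isoTop.hom := by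
      apply BasedNatTrans.homCategory.ext; ext a
      refine f.toFunctor.map_injective ?_
      rw [← cancel_epi (s d (j.obj a)).hom]
      change (s d (j.obj a)).hom ≫ f.map (θ (j.obj a) ≫ d'.isoTop.hom.toNatTrans.app a) = _
      rw [f.toFunctor.map_comp, reassoc_of% (hθ (j.obj a))]
      exact (hw d' a).trans (hw d a).symm
    have hbot : d.isoBot.hom ≫ BasedCategory.whiskerRight Θ f = d'.isoBot.hom := by
      apply BasedNatTrans.homCategory.ext; ext b
      exact hθ b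
    refine ⟨⟨⟨⟨Θ, htop, hbot⟩⟩, fun φ => ?_⟩⟩
    apply LiftSq.Sq.Lift.hom_ext
    apply BasedNatTrans.homCategory.ext; ext b
    refine f.toFunctor.map_injective ?_
    rw [← cancel_epi (s d b).hom]
    exact (congrArg (fun α : sq.bot ⟶ BasedFunctor.comp d'.fn f => α.toNatTrans.app b) φ.w_bot).trans (hθ b).symm

end Lift

end LiftAffLib
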