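import Mathlib.AlgebraicGeometry.AffineScheme
import Mathlib.AlgebraicGeometry.Restrict
import Mathlib.RingTheory.Localization.Away.Basic

/-!
# Morphisms between affine schemes and regular sequences of length two
-/

set_option autoImplicit false
set_option backward.isDefEq.respectTransparency false
set_option backward.isDefEq.respectTransparency.types false

universe u

open CategoryTheory AlgebraicGeometry Opposite

noncomputable section

namespace LiftAffLib

theorem pow_dvd_of_pow_dvd_mul {B : Type*} [CommRing B] {a b : B} (ha : IsRegular a)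
    (hab : ∀ x, a ∣ b * x → a ∣ x) : ∀ (m : ℕ) {p : B}, a ^ m ∣ b * p → a ^ m ∣ p
  | 0, _, _ => by simp
  | m + 1, p, h => by
    obtain ⟨p₁, rfl⟩ := hab p ((dvd_pow_self a m.succ_ne_zero).trans h)
    obtain ⟨c, hc⟩ := h
    have hc' : b * p₁ = a ^ m * c := ha.left (by
      change a * (b * p₁) = a * (a ^ m * c)
      linear_combination hc)
    rw [pow_succ']
    exact mul_dvd_mul_left a (pow_dvd_of_pow_dvd_mul ha hab m ⟨c, hc'⟩)

theorem pow_dvd_of_pow_dvd_pow_mul {B : Type*} [CommRing B] {a b : B} (ha : IsRegular a)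
    (hab : ∀ x, a ∣ b * x → a ∣ x) (m : ℕ) : ∀ (n : ℕ) {p : B}, a ^ m ∣ b ^ n * p → a ^ m ∣ p
  | 0, p, h => by simpa using h
  | n + 1, p, h => pow_dvd_of_pow_dvd_mul ha hab m
      (pow_dvd_of_pow_dvd_pow_mul ha hab m n (p := b * p) (by rwa [← mul_assoc, ← pow_succ]))

variable {X : Scheme.{u}} [IsAffine X]

/-- Restriction of global functions. -/
abbrev res (U : X.Opens) : Γ(X, ⊤) ⟶ Γ(X, U) := X.presheaf.map (homOfLE (le_top : U ≤ ⊤)).op

theorem res_res {U V : X.Opens} (h : V ≤ U) (f : Γ(X, ⊤)) :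
    X.presheaf.map (homOfLE h).op (res U f) = res V f := by
  rw [← CommRingCat.comp_apply, ← Functor.map_comp]
  rfl

theorem exists_res_mul_pow (a : Γ(X, ⊤)) (s : Γ(X, X.basicOpen a)) :
    ∃ (p : Γ(X, ⊤)) (m : ℕ), s * res (X.basicOpen a) a ^ m = res (X.basicOpen a) p := by
  haveI : IsLocalization.Away a Γ(X, X.basicOpen a) := (isAffineOpen_top X).isLocalization_basicOpen a
  obtain ⟨m, p, h⟩ := IsLocalization.Away.surj a s
  exact ⟨p, m, h⟩

theorem res_injective {a : Γ(X, ⊤)} (ha : IsRegular a) : Function.Injective (res (X.basicOpen a)) := by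
  haveI : IsLocalization.Away a Γ(X, X.basicOpen a) := (isAffineOpen_top X).isLocalization_basicOpen a
  refine IsLocalization.injective (Γ(X, X.basicOpen a)) (M := Submonoid.powers a) ?_
  rintro _ ⟨n, rfl⟩
  exact isRegular_iff_mem_nonZeroDivisors.1 (ha.pow n)

theorem ι_comp_appTop {Z : Scheme.{u}} (U : X.Opens) (g : X ⟶ Z) :
    (U.ι ≫ g).appTop ≫ U.topIso.hom = g.appTop ≫ res U := by
  rw [Scheme.Hom.comp_appTop, Category.assoc, Scheme.Opens.ι_appTop, Scheme.Opens.topIso_hom]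
  erw [← X.presheaf.map_comp]
  rfl

theorem homOfLE_comp_appTop {Z : Scheme.{u}} {U V : X.Opens} (h : U ≤ V) (g : (V : Scheme.{u}) ⟶ Z) :
    (X.homOfLE h ≫ g).appTop ≫ U.topIso.hom = (g.appTop ≫ V.topIso.hom) ≫ X.presheaf.map (homOfLE h).op := by
  rw [Scheme.Hom.comp_appTop, Category.assoc, Category.assoc, Scheme.homOfLE_appTop,
    Scheme.Opens.topIso_hom, Scheme.Opens.topIso_hom]
  erw [← X.presheaf.map_comp, ← X.presheaf.map_comp]
  rfl

theorem isUnit_res (a : Γ(X, ⊤)) : IsUnit (res (X.basicOpen a) a) :=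
  RingedSpace.isUnit_res_basicOpen X.toLocallyRingedSpace.toRingedSpace a

theorem hom_ext_basicOpen {Z : Scheme.{u}} [IsAffine Z] {a : Γ(X, ⊤)} (ha : IsRegular a) {g g' : X ⟶ Z}
    (h : (X.basicOpen a).ι ≫ g = (X.basicOpen a).ι ≫ g') : g = g' := by
  apply ext_of_isAffine
  ext s
  apply res_injective ha
  have h' := congrArg (fun k => k.appTop ≫ (X.basicOpen a).topIso.hom) h
  simp only [ι_comp_appTop] at h'
  exact congrArg (fun k => k s) h'

/-- Sections over the two basic opens agreeing on the overlap come from a global one. -/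
theorem exists_res_eq {a b : Γ(X, ⊤)} (ha : IsRegular a) (hb : IsRegular b) (hab : ∀ x, a ∣ b * x → a ∣ x)
    (s : Γ(X, X.basicOpen a)) (t : Γ(X, X.basicOpen b))
    (hst : X.presheaf.map (homOfLE (inf_le_left : X.basicOpen a ⊓ X.basicOpen b ≤ _)).op s =
      X.presheaf.map (homOfLE (inf_le_right : X.basicOpen a ⊓ X.basicOpen b ≤ _)).op t) :
    ∃ x, res (X.basicOpen a) x = s ∧ res (X.basicOpen b) x = t := by
  obtain ⟨p, m, hp⟩ := exists_res_mul_pow a s
  obtain ⟨r, n, hr⟩ := exists_res_mul_pow b t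
  have key : p * b ^ n = r * a ^ m := by
    have e1 := congrArg (X.presheaf.map (homOfLE (inf_le_left : X.basicOpen a ⊓ X.basicOpen b ≤ _)).op) hp
    have e2 := congrArg (X.presheaf.map (homOfLE (inf_le_right : X.basicOpen a ⊓ X.basicOpen b ≤ _)).op) hr
    rw [map_mul, map_pow, res_res, res_res] at e1 e2
    have e : res (X.basicOpen a ⊓ X.basicOpen b) (p * b ^ n) = res (X.basicOpen a ⊓ X.basicOpen b) (r * a ^ m) := by
      rw [map_mul, map_mul, map_pow, map_pow, ← e1, ← e2, hst]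
      ring
    have inj : Function.Injective (res (X.basicOpen a ⊓ X.basicOpen b)) := by
      rw [← X.basicOpen_mul]
      exact res_injective (ha.mul hb)
    exact inj e
  obtain ⟨x, rfl⟩ := pow_dvd_of_pow_dvd_pow_mul ha hab m n (p := p) ⟨r, by linear_combination key⟩
  have hr' : r = b ^ n * x := (ha.pow m).left (by
    change a ^ m * r = a ^ m * (b ^ n * x)
    linear_combination -key)
  refine ⟨x, ((isUnit_res a).pow m).mul_right_cancel ?_, ((isUnit_res b).pow n).mul_right_cancel ?_⟩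
  · rw [hp, map_mul, map_pow, mul_comm]
  · rw [hr, hr', map_mul, map_pow, mul_comm]

/-- Morphisms to an affine scheme extend from the union of two such basic opens. -/
theorem exists_hom_of_basicOpen {Z : Scheme.{u}} [IsAffine Z] {a b : Γ(X, ⊤)} (ha : IsRegular a)
    (hb : IsRegular b) (hab : ∀ x, a ∣ b * x → a ∣ x)
    (ga : (X.basicOpen a : Scheme.{u}) ⟶ Z) (gb : (X.basicOpen b : Scheme.{u}) ⟶ Z)
    (h : X.homOfLE (inf_le_left : X.basicOpen a ⊓ X.basicOpen b ≤ _) ≫ ga =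
      X.homOfLE (inf_le_right : X.basicOpen a ⊓ X.basicOpen b ≤ _) ≫ gb) :
    ∃ g : X ⟶ Z, (X.basicOpen a).ι ≫ g = ga ∧ (X.basicOpen b).ι ≫ g = gb := by
  let Φ : Γ(X, ⊤) →+* Γ(X, X.basicOpen a) × Γ(X, X.basicOpen b) :=
    (res (X.basicOpen a)).hom.prod (res (X.basicOpen b)).hom
  let Ψ : Γ(Z, ⊤) →+* Γ(X, X.basicOpen a) × Γ(X, X.basicOpen b) :=
    ((ga.appTop ≫ (X.basicOpen a).topIso.hom).hom).prod ((gb.appTop ≫ (X.basicOpen b).topIso.hom).hom)
  have hΨ : ∀ s, Ψ s ∈ Φ.range := fun s => by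
    obtain ⟨x, hx, hx'⟩ := exists_res_eq ha hb hab (Ψ s).1 (Ψ s).2 (by
      have h' := congrArg (fun k => k.appTop ≫ (X.basicOpen a ⊓ X.basicOpen b).topIso.hom) h
      simp only [homOfLE_comp_appTop] at h'
      exact congrArg (fun k => k s) h')
    exact ⟨x, Prod.ext hx hx'⟩
  let E : Γ(X, ⊤) ≃+* Φ.range := RingEquiv.ofBijective Φ.rangeRestrict
    ⟨fun x y e => res_injective ha (congrArg (fun z : Φ.range => z.1.1) e), Φ.rangeRestrict_surjective⟩
  let ψ : Γ(Z, ⊤) ⟶ Γ(X, ⊤) := CommRingCat.ofHom (E.symm.toRingHom.comp (Ψ.codRestrict Φ.range hΨ))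
  have hψ : ∀ s, Φ (ψ s) = Ψ s := fun s => congrArg Subtype.val (E.apply_symm_apply ⟨Ψ s, hΨ s⟩)
  let g : X ⟶ Z := X.isoSpec.hom ≫ Spec.map ψ ≫ Z.isoSpec.inv
  have hg : g.appTop = ψ := by
    simp [g, Scheme.isoSpec, ← Scheme.Hom.comp_appTop_assoc]
  refine ⟨g, ext_of_isAffine ?_, ext_of_isAffine ?_⟩
  · rw [← cancel_mono (X.basicOpen a).topIso.hom, ι_comp_appTop, hg]
    ext s
    exact congrArg Prod.fst (hψ s)
  · rw [← cancel_mono (X.basicOpen b).topIso.hom, ι_comp_appTop, hg]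
    ext s
    exact congrArg Prod.snd (hψ s)

end LiftAffLib
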