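import Groth.Agent.LiftAffLib.Hartogs
import Groth.Agent.LiftAffLib.Fibre
import Groth.Agent.QuotStLib.Basic
import Groth.Agent.QuotStLib.MapRep
import Groth.Agent.QuotStLib.ToSpace
import Groth.Agent.QuotTransLib.Etale
import Groth.Agent.QuotTransLib.Stack

/-!
# Extension of affine presheaves from the punctured quotient stack of an affine scheme
-/

set_option autoImplicit false
set_option linter.all false
set_option backward.isDefEq.respectTransparency false
set_option backward.isDefEq.respectTransparency.types false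

universe w u

open CategoryTheory CategoryTheory.Limits MonoidalCategory CartesianMonoidalCategory MonObj AlgebraicGeometry
open Opposite AlgSp AlgSpLib AlgStLib

noncomputable section

namespace LiftAffLib

variable {S : Scheme.{u}} {G X : Over S} [GrpObj G] {aX : AlgGrp.Action G X}

local notation "𝕜" => Scheme.fppfPrecoverage

/-- Restriction along an arrow. -/
abbrev pres (P : (AlgSt.QuotObj 𝕜 G aX)ᵒᵖ ⥤ Type w) {A B : AlgSt.QuotObj 𝕜 G aX} (k : A ⟶ B)
    (t : P.obj (op B)) : P.obj (op A) := P.map k.op t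

theorem pres_comp (P : (AlgSt.QuotObj 𝕜 G aX)ᵒᵖ ⥤ Type w) {A B C : AlgSt.QuotObj 𝕜 G aX} (k : A ⟶ B)
    (k' : B ⟶ C) (t : P.obj (op C)) : pres P (k ≫ k') t = pres P k (pres P k' t) :=
  ConcreteCategory.congr_hom (P.map_comp k'.op k.op) t

/-- Presheaves all whose fibres are affine over the base. -/
def AffRep (P : (AlgSt.QuotObj 𝕜 G aX)ᵒᵖ ⥤ Type w) : Prop :=
  ∀ A, ∃ (AZ : AlgSt.QuotObj 𝕜 G aX) (φZ : AZ ⟶ A) (s : P.obj (op AZ)), IsAffineHom φZ.base.left ∧
    ∀ (A' : AlgSt.QuotObj 𝕜 G aX) (φ : A' ⟶ A) (t : P.obj (op A')),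
      ∃! χ : A' ⟶ AZ, χ ≫ φZ = φ ∧ pres P χ s = t

/-- The equivariant map avoids the common zeros of two functions. -/
def Punct (a b : Γ(X.left, ⊤)) (A : AlgSt.QuotObj 𝕜 G aX) : Prop :=
  A.P.left.basicOpen (A.φ.left.appTop a) ⊔ A.P.left.basicOpen (A.φ.left.appTop b) = ⊤

variable (aX) in
/-- A regular sequence of two semi-invariant functions. -/
structure SemiReg (a b : Γ(X.left, ⊤)) : Prop where
  regA : IsRegular a
  regB : IsRegular b
  hab : ∀ x, a ∣ b * x → a ∣ x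
  invA : (G ⊗ X).left.basicOpen (aX.act.left.appTop a) = (G ⊗ X).left.basicOpen ((snd G X).left.appTop a)
  invB : (G ⊗ X).left.basicOpen (aX.act.left.appTop b) = (G ⊗ X).left.basicOpen ((snd G X).left.appTop b)
  regA' : IsRegular ((snd G X).left.appTop a)

theorem preimage_bo {Y Z : Scheme.{u}} (f : Y ⟶ Z) (r : Γ(Z, ⊤)) :
    f ⁻¹ᵁ Z.basicOpen r = Y.basicOpen (f.appTop r) :=
  Scheme.preimage_basicOpen f r

section Triv

variable (aX) in
/-- The trivial torsor of a point. -/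
abbrev tr {T : Over S} (x : T ⟶ X) : AlgSt.QuotObj 𝕜 G aX := QuotStLib.triv 𝕜 aX x

/-- The image of the unit section. -/
abbrev pt {T : Over S} {x : T ⟶ X} {A : AlgSt.QuotObj 𝕜 G aX} (n : tr aX x ⟶ A) : T ⟶ A.P :=
  lift (1 : T ⟶ G) (𝟙 T) ≫ n.top

theorem pt_inj {T : Over S} {x : T ⟶ X} {A : AlgSt.QuotObj 𝕜 G aX} {n n' : tr aX x ⟶ A}
    (h : pt n = pt n') : n = n' := by
  have hb : ∀ m : tr aX x ⟶ A, m.base = pt m ≫ A.π := fun m => by
    change _ = (lift (1 : T ⟶ G) (𝟙 T) ≫ m.top) ≫ A.π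
    rw [Category.assoc, m.cart.w]
    exact ((lift_snd_assoc _ _ _).trans (Category.id_comp _)).symm
  exact AlgSt.QuotObj.hom_ext (by rw [hb, hb, h])
    ((QuotStLib.top_eq n).trans ((congrArg (fun s => (G ◁ s) ≫ A.act.act) h).trans (QuotStLib.top_eq n').symm))

/-- The arrow of a section. -/
abbrev hom {T : Over S} (A : AlgSt.QuotObj 𝕜 G aX) (s : T ⟶ A.P) (x : T ⟶ X) (hx : s ≫ A.φ = x) :
    tr aX x ⟶ A :=
  QuotStLib.homOfSection A s x hx (s ≫ A.π) rfl

theorem pt_hom {T : Over S} (A : AlgSt.QuotObj 𝕜 G aX) (s : T ⟶ A.P) (x : T ⟶ X) (hx : s ≫ A.φ = x) :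
    pt (hom A s x hx) = s :=
  QuotStLib.unit_homOfSection A s

theorem pt_comp {T : Over S} {x : T ⟶ X} {A B : AlgSt.QuotObj 𝕜 G aX} (n : tr aX x ⟶ A) (k : A ⟶ B) :
    pt (n ≫ k) = pt n ≫ k.top :=
  (Category.assoc _ _ _).symm

theorem pt_comp_hom {T T' : Over S} {x : T ⟶ X} {x' : T' ⟶ X} {A : AlgSt.QuotObj 𝕜 G aX} (g : T ⟶ G)
    (t : T ⟶ T') (n : tr aX x ⟶ tr aX x') (hn : pt n = lift g t) (r : T' ⟶ A.P) (hr : r ≫ A.φ = x') :
    pt (n ≫ hom A r x' hr) = lift g (t ≫ r) ≫ A.act.act := by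
  rw [pt_comp, hn]
  change lift g t ≫ (G ◁ r) ≫ A.act.act = _
  rw [← Category.assoc, QuotStLib.lift_whisker]

theorem lift_one_φ {T T' : Over S} (t : T ⟶ T') (x' : T' ⟶ X) :
    lift (1 : T ⟶ G) t ≫ (tr aX x').φ = t ≫ x' := by
  change lift 1 t ≫ (G ◁ x') ≫ aX.act = _
  rw [← Category.assoc, QuotStLib.lift_whisker, QuotStLib.act_one]

/-- The arrow between trivial torsors over a map. -/
abbrev tmap {T T' : Over S} (t : T ⟶ T') (x' : T' ⟶ X) (x : T ⟶ X) (hx : t ≫ x' = x) :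
    tr aX x ⟶ tr aX x' :=
  hom (tr aX x') (lift (1 : T ⟶ G) t) x ((lift_one_φ t x').trans hx)

theorem pt_tmap_hom {T T' : Over S} (t : T ⟶ T') {x : T ⟶ X} {x' : T' ⟶ X} (hx : t ≫ x' = x)
    {A : AlgSt.QuotObj 𝕜 G aX} (r : T' ⟶ A.P) (hr : r ≫ A.φ = x') :
    pt (tmap t x' x hx ≫ hom A r x' hr) = t ≫ r := by
  rw [pt_comp_hom (A := A) 1 t _ (pt_hom _ _ _ _), QuotStLib.act_one]

theorem base_tmap {T T' : Over S} (t : T ⟶ T') {x : T ⟶ X} {x' : T' ⟶ X} (hx : t ≫ x' = x) :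
    (tmap (aX := aX) t x' x hx).base = t :=
  lift_snd _ _

theorem punct_tr {a b : Γ(X.left, ⊤)} (H : SemiReg aX a b) {T : Over S} (x : T ⟶ X)
    (h : x.left ⁻¹ᵁ X.left.basicOpen a ⊔ x.left ⁻¹ᵁ X.left.basicOpen b = ⊤) : Punct a b (tr aX x) := by
  have key : ∀ c : Γ(X.left, ⊤),
      (G ⊗ X).left.basicOpen (aX.act.left.appTop c) = (G ⊗ X).left.basicOpen ((snd G X).left.appTop c) →
      (G ⊗ T).left.basicOpen (((G ◁ x) ≫ aX.act).left.appTop c) =
        (snd G T).left ⁻¹ᵁ (x.left ⁻¹ᵁ X.left.basicOpen c) := fun c hc => by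
    rw [← preimage_bo, ← Scheme.Hom.comp_preimage, ← Over.comp_left, ← whiskerLeft_snd,
      Over.comp_left, Over.comp_left, Scheme.Hom.comp_preimage, Scheme.Hom.comp_preimage,
      preimage_bo aX.act.left c, hc, ← preimage_bo]
  change (G ⊗ T).left.basicOpen (((G ◁ x) ≫ aX.act).left.appTop a) ⊔
    (G ⊗ T).left.basicOpen (((G ◁ x) ≫ aX.act).left.appTop b) = ⊤
  rw [key a H.invA, key b H.invB, ← Scheme.Hom.preimage_sup, h, Scheme.Hom.preimage_top]

end Triv

/-- An open subscheme over the base. -/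
abbrev opn (V : X.left.Opens) : Over S := Over.mk (V.ι ≫ X.hom)

/-- Its inclusion. -/
abbrev oi (V : X.left.Opens) : opn V ⟶ X := Over.homMk V.ι rfl

theorem exists_opn_fac {T : Over S} (f : T ⟶ X) (V : X.left.Opens) (h : f.left ⁻¹ᵁ V = ⊤) :
    ∃ t : T ⟶ opn V, t ≫ oi V = f := by
  have hr : Set.range f.left ⊆ Set.range V.ι := by
    rw [Scheme.Opens.range_ι]
    rintro _ ⟨y, rfl⟩
    exact (h.ge (show y ∈ (⊤ : T.left.Opens) from trivial))
  refine ⟨Over.homMk (IsOpenImmersion.lift V.ι f.left hr) ?_, Over.OverMorphism.ext ?_⟩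
  · change _ ≫ V.ι ≫ X.hom = T.hom
    rw [← Category.assoc, IsOpenImmersion.lift_fac, Over.w f]
  · exact IsOpenImmersion.lift_fac _ _ _

theorem preimage_oi (V : X.left.Opens) : (oi V).left ⁻¹ᵁ V = ⊤ := Scheme.Opens.ι_preimage_self V

variable [IsAffineHom G.hom]

theorem eq_of_pres {P : (AlgSt.QuotObj 𝕜 G aX)ᵒᵖ ⥤ Type w} (hP : AffRep P) {A : AlgSt.QuotObj 𝕜 G aX}
    {I : Type*} {A' : I → AlgSt.QuotObj 𝕜 G aX} (k : ∀ i, A' i ⟶ A)
    (hk : ∀ (Z : Over S) (q : Z ⟶ A.base), IsAffineHom q.left → ∀ g g' : A.base ⟶ Z, g ≫ q = 𝟙 _ → g' ≫ q = 𝟙 _ →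
      (∀ i, (k i).base ≫ g = (k i).base ≫ g') → g = g')
    {σ σ' : P.obj (op A)} (h : ∀ i, pres P (k i) σ = pres P (k i) σ') : σ = σ' := by
  obtain ⟨AZ, φZ, s, haff, huniv⟩ := hP A
  obtain ⟨χ, ⟨hχ, hs⟩, -⟩ := huniv A (𝟙 A) σ
  obtain ⟨χ', ⟨hχ', hs'⟩, -⟩ := huniv A (𝟙 A) σ'
  have e : ∀ i, k i ≫ χ = k i ≫ χ' := fun i =>
    (huniv (A' i) (k i) (pres P (k i) σ)).unique
      ⟨by rw [Category.assoc, hχ, Category.comp_id], by rw [pres_comp, hs]⟩
      ⟨by rw [Category.assoc, hχ', Category.comp_id], by rw [pres_comp, hs', h]⟩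
  have hb : χ.base = χ'.base := hk _ φZ.base haff _ _ (congrArg AlgSt.QuotObj.Hom.base hχ)
    (congrArg AlgSt.QuotObj.Hom.base hχ') fun i => congrArg AlgSt.QuotObj.Hom.base (e i)
  rw [← hs, ← hs', QuotStLib.hom_cancel φZ χ χ' hb (hχ.trans hχ'.symm)]

theorem exists_section_lift {P : (AlgSt.QuotObj 𝕜 G aX)ᵒᵖ ⥤ Type w} {A AZ : AlgSt.QuotObj 𝕜 G aX}
    (φZ : AZ ⟶ A) (g : A.base ⟶ AZ.base) (hg : g ≫ φZ.base = 𝟙 _) :
    ∃ χ : A ⟶ AZ, χ.base = g ∧ χ ≫ φZ = 𝟙 A := by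
  haveI : FibCat.IsFibGrpd (AlgSt.QuotObj.forget 𝕜 G aX) := QuotTransLib.isFibGrpd
  exact exists_fac (AlgSt.QuotObj.forget 𝕜 G aX) (𝟙 A) φZ g hg

theorem isAffine_tensor (T : Over S) [IsAffine T.left] : IsAffine (G ⊗ T).left := by
  haveI : IsAffineHom (snd G T).left := by
    change IsAffineHom (pullback.snd G.hom T.hom)
    exact MorphismProperty.pullback_snd _ _ ‹_›
  exact isAffine_of_isAffineHom (snd G T).left

variable [IsAffine X.left] [Flat G.hom] [LocallyOfFinitePresentation G.hom]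
  {a b : Γ(X.left, ⊤)} (H : SemiReg aX a b) {P : (AlgSt.QuotObj 𝕜 G aX)ᵒᵖ ⥤ Type w} (hP : AffRep P)
  (c₀ : ∀ A, Punct a b A → P.obj (op A))
  (h₀ : ∀ {A B : AlgSt.QuotObj 𝕜 G aX} (k : A ⟶ B) (hA : Punct a b A) (hB : Punct a b B),
    pres P k (c₀ B hB) = c₀ A hA)

variable (aX) in
/-- The universal trivial object. -/
abbrev u₀ : AlgSt.QuotObj 𝕜 G aX := tr aX (𝟙 X)

/-- The canonical arrow to the universal trivial object. -/
abbrev can {T : Over S} (x : T ⟶ X) : tr aX x ⟶ u₀ aX := tmap x (𝟙 X) x (Category.comp_id x)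

/-- The image of the unit in the universal trivial object, as a point of the product. -/
abbrev pt₀ {T : Over S} {x : T ⟶ X} (n : tr aX x ⟶ u₀ aX) : T ⟶ G ⊗ X := pt n

omit [IsAffineHom G.hom] [IsAffine X.left] [Flat G.hom] [LocallyOfFinitePresentation G.hom] in
theorem pt₀_act {T : Over S} {x : T ⟶ X} (n : tr aX x ⟶ u₀ aX) : pt₀ n ≫ aX.act = x := by
  have e : (G ◁ 𝟙 X) ≫ aX.act = aX.act := by simp
  have h : pt n ≫ (u₀ aX).φ = x := by
    change (lift (1 : T ⟶ G) (𝟙 T) ≫ n.top) ≫ (u₀ aX).φ = x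
    rw [Category.assoc, n.wφ, lift_one_φ, Category.id_comp]
  rw [← e]
  exact h

omit [IsAffineHom G.hom] [IsAffine X.left] [Flat G.hom] [LocallyOfFinitePresentation G.hom] in
theorem pt₀_can_snd {T : Over S} (y : T ⟶ X) : pt₀ (can (aX := aX) y) ≫ snd G X = y :=
  (congrArg (fun r : T ⟶ G ⊗ X => r ≫ snd G X) (pt_hom (u₀ aX) _ _ _)).trans (lift_snd _ _)

include H in
omit [IsAffineHom G.hom] [IsAffine X.left] [Flat G.hom] [LocallyOfFinitePresentation G.hom] in
theorem punctA : Punct a b (tr aX (oi (X.left.basicOpen a))) :=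
  punct_tr H _ (by rw [preimage_oi]; exact top_sup_eq _)

include H in
omit [IsAffineHom G.hom] [IsAffine X.left] [Flat G.hom] [LocallyOfFinitePresentation G.hom] in
theorem punctB : Punct a b (tr aX (oi (X.left.basicOpen b))) :=
  punct_tr H _ (by rw [preimage_oi]; exact sup_top_eq _)

include H hP c₀ h₀ in
omit [Flat G.hom] [LocallyOfFinitePresentation G.hom] in
theorem exists_s₀ : ∃ s₀ : P.obj (op (u₀ aX)),
    pres P (can (oi (X.left.basicOpen a))) s₀ = c₀ _ (punctA H) ∧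
    pres P (can (oi (X.left.basicOpen b))) s₀ = c₀ _ (punctB H) ∧
    ∀ t, pres P (can (oi (X.left.basicOpen a))) t = c₀ _ (punctA H) → t = s₀ := by
  obtain ⟨AZ, φZ, s, haff, huniv⟩ := hP (u₀ aX)
  haveI := haff
  haveI : IsAffine (u₀ aX).base.left := ‹IsAffine X.left›
  haveI : IsAffine AZ.base.left := isAffine_of_isAffineHom φZ.base.left
  obtain ⟨χa, ⟨hχa, hsa⟩, -⟩ := huniv _ (can (oi (X.left.basicOpen a))) (c₀ _ (punctA H))
  obtain ⟨χb, ⟨hχb, hsb⟩, -⟩ := huniv _ (can (oi (X.left.basicOpen b))) (c₀ _ (punctB H))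
  let W := X.left.basicOpen a ⊓ X.left.basicOpen b
  let ta : opn W ⟶ opn (X.left.basicOpen a) :=
    Over.homMk (X.left.homOfLE inf_le_left) (by simp [opn])
  let tb : opn W ⟶ opn (X.left.basicOpen b) :=
    Over.homMk (X.left.homOfLE inf_le_right) (by simp [opn])
  have hta : ta ≫ oi _ = oi W := Over.OverMorphism.ext (by simp [ta, oi, opn])
  have htb : tb ≫ oi _ = oi W := Over.OverMorphism.ext (by simp [tb, oi, opn])
  have hW : Punct a b (tr aX (oi W)) := by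
    refine punct_tr H _ (top_le_iff.1 (le_sup_of_le_left ?_))
    rw [← preimage_oi W]
    exact Scheme.Hom.preimage_mono _ inf_le_left
  have hab' : tmap ta _ _ hta ≫ χa = tmap tb _ _ htb ≫ χb := by
    refine (huniv _ (can (oi W)) (c₀ _ hW)).unique ⟨?_, ?_⟩ ⟨?_, ?_⟩
    · rw [Category.assoc, hχa]
      refine pt_inj ?_
      rw [pt_tmap_hom, pt_hom, comp_lift, MonObj.comp_one, hta]
    · rw [pres_comp, hsa, h₀]
    · rw [Category.assoc, hχb]
      refine pt_inj ?_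
      rw [pt_tmap_hom, pt_hom, comp_lift, MonObj.comp_one, htb]
    · rw [pres_comp, hsb, h₀]
  have hg := congrArg (fun k => k.base.left) hab'
  simp only [AlgSt.QuotObj.comp_base, base_tmap, Over.comp_left] at hg
  obtain ⟨g, hga, hgb⟩ := exists_hom_of_basicOpen H.regA H.regB H.hab χa.base.left χb.base.left hg
  have hgq : g ≫ φZ.base.left = 𝟙 X.left := by
    refine hom_ext_basicOpen H.regA ?_
    rw [← Category.assoc, hga, Category.comp_id, ← Over.comp_left, ← AlgSt.QuotObj.comp_base, hχa, base_tmap]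
    rfl
  obtain ⟨χ, hχg, hχ⟩ := exists_section_lift (P := P) φZ
    (Over.homMk g (by rw [← Over.w φZ.base, ← Category.assoc, hgq]; exact Category.id_comp _) : X ⟶ AZ.base)
    (Over.OverMorphism.ext hgq)
  have hkχ : ∀ (V : X.left.Opens) (χV : tr aX (oi V) ⟶ AZ), χV ≫ φZ = can (oi V) →
      V.ι ≫ g = χV.base.left → can (oi V) ≫ χ = χV := by
    intro V χV hV hgV
    refine QuotStLib.hom_cancel φZ _ _ ?_ (by rw [Category.assoc, hχ, Category.comp_id, hV])
    refine Over.OverMorphism.ext ?_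
    rw [AlgSt.QuotObj.comp_base, base_tmap, hχg]
    exact hgV
  refine ⟨pres P χ s, ?_, ?_, fun t ht => ?_⟩
  · rw [← pres_comp, hkχ _ χa hχa hga, hsa]
  · rw [← pres_comp, hkχ _ χb hχb hgb, hsb]
  · refine eq_of_pres hP (I := PUnit.{1}) (fun _ => can (oi (X.left.basicOpen a))) (fun Z q hq g g' _ _ h => ?_)
      fun _ => ?_
    · haveI := hq
      haveI : IsAffine Z.left := isAffine_of_isAffineHom q.left
      refine Over.OverMorphism.ext (hom_ext_basicOpen H.regA ?_)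
      have := congrArg (fun k => k.left) (h ⟨⟩)
      simpa [base_tmap] using this
    · rw [ht, ← pres_comp, hkχ _ χa hχa hga, hsa]

include H h₀ in
omit [IsAffineHom G.hom] [IsAffine X.left] [Flat G.hom] [LocallyOfFinitePresentation G.hom] in
theorem pres_piece {c : Γ(X.left, ⊤)} (hc : Punct a b (tr aX (oi (X.left.basicOpen c))))
    {s₀ : P.obj (op (u₀ aX))} (hs : pres P (can (oi (X.left.basicOpen c))) s₀ = c₀ _ hc)
    {T : Over S} {x : T ⟶ X} (hx : Punct a b (tr aX x)) (n : tr aX x ⟶ u₀ aX)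
    (hn : (pt₀ n ≫ snd G X).left ⁻¹ᵁ X.left.basicOpen c = ⊤) : pres P n s₀ = c₀ _ hx := by
  obtain ⟨t, ht⟩ := exists_opn_fac (pt₀ n ≫ snd G X) _ hn
  let n' : tr aX x ⟶ tr aX (oi (X.left.basicOpen c)) := hom _ (lift (pt₀ n ≫ fst G X) t) x (by
    change lift _ t ≫ (G ◁ oi (X.left.basicOpen c)) ≫ aX.act = x
    rw [← Category.assoc, QuotStLib.lift_whisker, ht, ← comp_lift, lift_fst_snd, Category.comp_id]
    exact pt₀_act n)
  have e : n = n' ≫ can (oi (X.left.basicOpen c)) := by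
    refine pt_inj ?_
    rw [pt_comp_hom (A := u₀ aX) (pt₀ n ≫ fst G X) t n' (pt_hom _ _ _ _), comp_lift, MonObj.comp_one, ht]
    change pt₀ n = lift _ (lift 1 _) ≫ (AlgSt.leftMul G X).act
    apply CartesianMonoidalCategory.hom_ext <;> simp [AlgSt.leftMul, comp_lift, comp_mul]
  rw [e, pres_comp, hs, h₀]

include H hP h₀ in
omit [Flat G.hom] [LocallyOfFinitePresentation G.hom] in
theorem pres_eq_can {s₀ : P.obj (op (u₀ aX))}
    (hs : pres P (can (oi (X.left.basicOpen a))) s₀ = c₀ _ (punctA H))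
    {T : Over S} {x : T ⟶ X} (n : tr aX x ⟶ u₀ aX) : pres P n s₀ = pres P (can x) s₀ := by
  let V := (G ⊗ X).left.basicOpen ((snd G X).left.appTop a)
  let j : opn V ⟶ G ⊗ X := oi V
  have hV₁ : (j ≫ snd G X).left ⁻¹ᵁ X.left.basicOpen a = ⊤ := by
    rw [Over.comp_left, Scheme.Hom.comp_preimage, preimage_bo]
    exact preimage_oi V
  have hV₂ : (j ≫ aX.act).left ⁻¹ᵁ X.left.basicOpen a = ⊤ := by
    rw [Over.comp_left, Scheme.Hom.comp_preimage, preimage_bo, H.invA]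
    exact preimage_oi V
  have hp : Punct a b (tr aX (j ≫ aX.act)) := punct_tr H _ (by rw [hV₂]; exact top_sup_eq _)
  let e₂ : tr aX aX.act ⟶ u₀ aX := hom _ (𝟙 (G ⊗ X)) aX.act (by
    change 𝟙 _ ≫ (G ◁ 𝟙 X) ≫ aX.act = aX.act
    simp)
  let k : tr aX (j ≫ aX.act) ⟶ tr aX aX.act := tmap j aX.act _ rfl
  have he : pres P (can aX.act) s₀ = pres P e₂ s₀ := by
    refine eq_of_pres hP (I := PUnit.{1}) (fun _ => k) (fun Z q hq g g' _ _ h => ?_) fun _ => ?_
    · haveI := hq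
      haveI : IsAffine (G ⊗ X).left := isAffine_tensor X
      haveI : IsAffine (tr aX aX.act).base.left := isAffine_tensor X
      haveI : IsAffine Z.left := isAffine_of_isAffineHom q.left
      refine Over.OverMorphism.ext (hom_ext_basicOpen H.regA' ?_)
      have := congrArg (fun k => k.left) (h ⟨⟩)
      simp only [k, base_tmap, Over.comp_left] at this
      exact this
    · rw [← pres_comp, ← pres_comp, pres_piece H c₀ h₀ (punctA H) hs hp, pres_piece H c₀ h₀ (punctA H) hs hp]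
      · change (pt (k ≫ e₂) ≫ snd G X).left ⁻¹ᵁ _ = _
        rw [pt_tmap_hom]
        change ((j ≫ 𝟙 (G ⊗ X)) ≫ snd G X).left ⁻¹ᵁ _ = _
        rw [Category.comp_id]; exact hV₁
      · change (pt (k ≫ can aX.act) ≫ snd G X).left ⁻¹ᵁ _ = _
        rw [pt_tmap_hom]
        change ((j ≫ lift (1 : G ⊗ X ⟶ G) aX.act) ≫ snd G X).left ⁻¹ᵁ _ = _
        rw [Category.assoc, lift_snd]; exact hV₂
  have h1 : tmap (pt₀ n) aX.act x (pt₀_act n) ≫ e₂ = n := pt_inj (by
    rw [pt_tmap_hom]; exact Category.comp_id _)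
  have h2 : tmap (pt₀ n) aX.act x (pt₀_act n) ≫ can aX.act = can x := pt_inj (by
    refine (pt_tmap_hom (aX := aX) (pt₀ n) (pt₀_act n) _ _).trans (Eq.trans ?_ (pt_hom _ _ _ _).symm)
    change pt₀ n ≫ lift (1 : G ⊗ X ⟶ G) aX.act = lift (1 : T ⟶ G) x
    rw [comp_lift, MonObj.comp_one, pt₀_act])
  conv_lhs => rw [← h1, pres_comp, ← he, ← pres_comp, h2]

theorem epi_π (A : AlgSt.QuotObj 𝕜 G aX) : Sheaf.IsLocallySurjective ((yon S).map A.π) := by
  haveI : Flat A.π.left :=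
    (locP_yon_map_iff _).1 (QuotStLib.locP_torsor @Flat isLocalOnBase_fppf_flat inferInstance A)
  haveI : LocallyOfFinitePresentation A.π.left :=
    (locP_yon_map_iff _).1 (QuotStLib.locP_torsor @LocallyOfFinitePresentation isLocalOnBase_fppf_lfp inferInstance A)
  haveI : Surjective A.π.left := surjective_left_of_isSurjectiveMor (QuotStLib.isSurjectiveMor_torsor A)
  exact isLocallySurjective_yon_map A.π

/-- The tautological arrow of an object. -/
abbrev taut (A : AlgSt.QuotObj 𝕜 G aX) : tr aX A.φ ⟶ A := hom A (𝟙 A.P) A.φ (Category.id_comp _)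

include hP in
theorem taut_inj {A : AlgSt.QuotObj 𝕜 G aX} {σ σ' : P.obj (op A)}
    (h : pres P (taut A) σ = pres P (taut A) σ') : σ = σ' := by
  refine eq_of_pres hP (I := PUnit.{1}) (fun _ => taut A) (fun Z q _ g g' _ _ e => ?_) fun _ => h
  haveI := epi_π A
  refine (yon S).map_injective ((cancel_epi ((yon S).map A.π)).1 ?_)
  have := e ⟨⟩
  change (𝟙 A.P ≫ A.π) ≫ g = (𝟙 A.P ≫ A.π) ≫ g' at this
  rw [Category.id_comp] at this
  rw [← Functor.map_comp, this, Functor.map_comp]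

include H hP h₀ in
theorem exists_glue {s₀ : P.obj (op (u₀ aX))}
    (hs : pres P (can (oi (X.left.basicOpen a))) s₀ = c₀ _ (punctA H)) (A : AlgSt.QuotObj 𝕜 G aX) :
    ∃ σ : P.obj (op A), pres P (taut A) σ = pres P (can A.φ) s₀ := by
  obtain ⟨AZ, φZ, s, -, huniv⟩ := hP A
  obtain ⟨χ', ⟨hχ', hs'⟩, -⟩ := huniv _ (taut A) (pres P (can A.φ) s₀)
  let w := A.act.act ≫ A.φ
  let ka : tr aX w ⟶ tr aX A.φ := tmap A.act.act A.φ w rfl
  let kb : tr aX w ⟶ tr aX A.φ := hom _ (𝟙 (G ⊗ A.P)) w (by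
    change 𝟙 _ ≫ (G ◁ A.φ) ≫ aX.act = A.act.act ≫ A.φ
    rw [Category.id_comp, A.eqv])
  have hab : ka ≫ taut A = kb ≫ taut A := pt_inj (by
    rw [pt_tmap_hom, pt_comp, pt_hom, Category.comp_id]
    change _ = 𝟙 _ ≫ (G ◁ 𝟙 A.P) ≫ A.act.act
    simp)
  have heq : ka ≫ χ' = kb ≫ χ' := by
    refine (huniv _ (ka ≫ taut A) (pres P (can w) s₀)).unique ⟨?_, ?_⟩ ⟨?_, ?_⟩
    · rw [Category.assoc, hχ']
    · rw [pres_comp, hs', ← pres_comp, pres_eq_can H hP c₀ h₀ hs]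
    · rw [Category.assoc, hχ', hab]
    · rw [pres_comp, hs', ← pres_comp, pres_eq_can H hP c₀ h₀ hs]
  have hb := congrArg AlgSt.QuotObj.Hom.base heq
  simp only [AlgSt.QuotObj.comp_base, base_tmap, ka] at hb
  change A.act.act ≫ χ'.base = (𝟙 _ ≫ snd G A.P) ≫ χ'.base at hb
  rw [Category.id_comp] at hb
  haveI := epi_π A
  obtain ⟨g₁, hg₁⟩ := exists_desc ((yon S).map A.π) ((yon S).map χ'.base) fun T p p' e => by
    have sqA := A.cart.map (yon S)
    rw [← sqA.lift_fst p p' e]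
    conv_rhs => rw [← sqA.lift_snd p p' e]
    rw [Category.assoc, Category.assoc, ← Functor.map_comp, ← Functor.map_comp, hb]
  obtain ⟨g, rfl⟩ := (yon S).map_surjective g₁
  have hπg : A.π ≫ g = χ'.base := (yon S).map_injective (by rw [Functor.map_comp, hg₁])
  have hgq : g ≫ φZ.base = 𝟙 _ := by
    refine (yon S).map_injective ((cancel_epi ((yon S).map A.π)).1 ?_)
    rw [← Functor.map_comp, ← Functor.map_comp, ← Category.assoc, hπg, Category.comp_id,
      ← AlgSt.QuotObj.comp_base, hχ']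
    change (yon S).map (𝟙 A.P ≫ A.π) = _
    rw [Category.id_comp]
  obtain ⟨χ, hχg, hχ⟩ := exists_section_lift (P := P) φZ g hgq
  refine ⟨pres P χ s, ?_⟩
  have : taut A ≫ χ = χ' := by
    refine QuotStLib.hom_cancel φZ _ _ ?_ (by rw [Category.assoc, hχ, Category.comp_id, hχ'])
    change (𝟙 A.P ≫ A.π) ≫ χ.base = _
    rw [Category.id_comp, hχg, hπg]
  rw [← pres_comp, this, hs']

include H hP h₀ in
/-- A natural family on the punctured objects extends uniquely. -/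
theorem existsUnique_extend :
    ∃! c : ∀ A, P.obj (op A),
      (∀ (A B : AlgSt.QuotObj 𝕜 G aX) (k : A ⟶ B), pres P k (c B) = c A) ∧
        ∀ A (hA : Punct a b A), c A = c₀ A hA := by
  obtain ⟨s₀, hsa, hsb, hsu⟩ := exists_s₀ H hP c₀ h₀
  choose c hc using exists_glue H hP c₀ h₀ hsa
  refine ⟨c, ⟨fun A B k => ?_, fun A hA => ?_⟩, fun c' ⟨hc', hc₀⟩ => ?_⟩
  · refine taut_inj hP ?_
    have e : taut A ≫ k = tmap k.top B.φ A.φ k.wφ ≫ taut B := pt_inj (by
      rw [pt_comp, pt_hom, pt_tmap_hom, Category.id_comp, Category.comp_id])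
    rw [← pres_comp, e, pres_comp, hc, ← pres_comp, pres_eq_can H hP c₀ h₀ hsa, hc]
  · refine taut_inj hP ?_
    have hsup : A.φ.left ⁻¹ᵁ X.left.basicOpen a ⊔ A.φ.left ⁻¹ᵁ X.left.basicOpen b = ⊤ := by
      rw [preimage_bo, preimage_bo]; exact hA
    have hp : Punct a b (tr aX A.φ) := punct_tr H _ hsup
    rw [hc, h₀ (taut A) hp hA]
    let V : Bool → A.P.left.Opens :=
      fun i => A.φ.left ⁻¹ᵁ X.left.basicOpen (if i then a else b)
    refine eq_of_pres hP (fun i => tmap (oi (V i)) A.φ _ rfl) (fun Z q _ g g' _ _ e => ?_) fun i => ?_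
    · refine Over.OverMorphism.ext ?_
      have hVt : (⨆ i, V i) = ⊤ := by simpa [V, iSup_bool_eq] using hsup
      refine (A.P.left.openCoverOfIsOpenCover V (.mk hVt)).hom_ext _ _ fun i => ?_
      have := congrArg (fun k => k.left) (e i)
      simpa [base_tmap] using this
    · have hpre : ((oi (V i)) ≫ A.φ).left ⁻¹ᵁ X.left.basicOpen (if i then a else b) = ⊤ := by
        rw [Over.comp_left, Scheme.Hom.comp_preimage]; exact preimage_oi (V i)
      have hpi : Punct a b (tr aX (oi (V i) ≫ A.φ)) := punct_tr H _ (by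
        cases i <;> simp only [Bool.false_eq_true, ↓reduceIte] at hpre <;> rw [hpre]
        · exact sup_top_eq _
        · exact top_sup_eq _)
      rw [h₀ _ hpi hp, ← pres_comp, pres_eq_can H hP c₀ h₀ hsa]
      cases i
      · simp only [Bool.false_eq_true, ↓reduceIte] at hpre
        refine pres_piece H c₀ h₀ (punctB H) hsb hpi _ ?_
        rw [pt₀_can_snd]; exact hpre
      · simp only [↓reduceIte] at hpre
        refine pres_piece H c₀ h₀ (punctA H) hsa hpi _ ?_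
        rw [pt₀_can_snd]; exact hpre
  · have h1 : c' (u₀ aX) = s₀ := hsu _ (by rw [hc', hc₀])
    funext A
    refine taut_inj hP ?_
    rw [hc, hc', ← h1, hc']

end LiftAffLib
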