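import Groth.Agent.LiftAffLib.Fibre
import Groth.Agent.AlgStLib.Cover

/-!
# Functors representable by affine morphisms: universal lifts
-/

set_option autoImplicit false
set_option linter.style.haveILetI false
set_option backward.isDefEq.respectTransparency false
set_option backward.isDefEq.respectTransparency.types false

universe v₃ u₃ v₂ u₂ v₁ u₁ w' w u

open CategoryTheory CategoryTheory.Limits AlgebraicGeometry Opposite AlgSp FibCat FibLib AlgSpLib AlgStLib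
open CategoryTheory.Functor (IsPreFibered)

noncomputable section

namespace LiftAffLib

variable {S : Scheme.{u}}

theorem natApp_congr {C : Type w} [Category.{w'} C] {𝒜 : BasedCategory.{v₁, u₁} C} {ℬ : BasedCategory.{v₂, u₂} C}
    {F G : 𝒜 ⥤ᵇ ℬ} {α β : F ⟶ G} (h : α = β) (x : 𝒜.obj) : α.toNatTrans.app x = β.toNatTrans.app x := by
  rw [h]

/-- A terminal element of an equivalent category. -/
theorem exists_terminal {H : Sp S} {Z : Over S} (i : (yon S).obj Z ≅ H) (z : (AlgSt.ofSp H).obj) :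
    ∃! m : z ⟶ (⟨Z, yEq i.hom⟩ : (AlgSt.ofSp H).obj), True := by
  obtain ⟨T, s⟩ := z
  obtain ⟨h, hh⟩ := (yon S).map_surjective (yEq.symm s ≫ i.inv)
  have hs : H.obj.map h.op (yEq i.hom) = s := by
    rw [← yEq_map, hh, Category.assoc, Iso.inv_hom_id, Category.comp_id, Equiv.apply_symm_apply]
  refine ⟨⟨h, hs⟩, trivial, fun m _ => Stk.EltObj.hom_ext ((yon S).map_injective ?_)⟩
  have hm : H.obj.map m.hom.op (yEq i.hom) = s := m.map_sec
  refine (cancel_mono i.hom).1 (yEq.injective ?_)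
  rw [yEq_map, yEq_map]
  exact hm.trans hs.symm

variable {𝒳 : BasedCategory.{v₁, u₁} (Over S)} {𝒴 : BasedCategory.{v₂, u₂} (Over S)}
  [IsFibGrpd 𝒳.p] [IsFibGrpd 𝒴.p]

/-- The fibre product along a point of the base has a terminal object, affine over the point's scheme. -/
theorem exists_terminal_fp {f : 𝒳 ⥤ᵇ 𝒴} (hf : AlgSt.RepByAlgSpWith (AlgSp.RepWith @IsAffineHom) f)
    {T : Over S} (v : AlgSt.ofSch T ⥤ᵇ 𝒴) :
    ∃ η₀ : (fp v f).obj, IsAffineHom η₀.obj.fst.sec.down.left ∧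
      ∀ η : (fp v f).obj, ∃! _m : η ⟶ η₀, True := by
  obtain ⟨H, a, -, ⟨e, he, ⟨β⟩⟩, ha⟩ := (repByAlgSpWith_iff _ f).mp hf T v
  have sq := IsPullback.of_hasPullback a (𝟙 ((yon S).obj T))
  obtain ⟨Z, q, g₁, sq⟩ := (ha.1 (𝟙 ((yon S).obj T)))
  haveI : IsIso g₁ := sq.isIso_fst_of_isIso
  haveI haff : IsAffineHom q.left := ha.2 (𝟙 _) g₁ q sq
  let i : (yon S).obj Z ≅ H := asIso g₁
  let z₀ : (AlgSt.ofSp H).obj := ⟨Z, yEq i.hom⟩
  refine ⟨e.obj z₀, ?_, fun η => ?_⟩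
  · let φ : (e.obj z₀).obj.fst ⟶ (Stk.ofPshMap a.hom).obj z₀ := β.hom.toNatTrans.app z₀
    haveI : IsIso φ.hom :=
      ⟨⟨(β.inv.toNatTrans.app z₀).hom,
        congrArg Stk.EltObj.Hom.hom (natApp_congr β.hom_inv_id z₀),
        congrArg Stk.EltObj.Hom.hom (natApp_congr β.inv_hom_id z₀)⟩⟩
    have h1 : φ.hom ≫ q = (e.obj z₀).obj.fst.sec.down := by
      have hq : a.hom.app (op Z) (yEq i.hom) = ULift.up q := by
        rw [← yEq_comp]
        change yEq (g₁ ≫ a) = _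
        rw [sq.w, Category.comp_id]
        rfl
      have := φ.map_sec
      change ULift.up (φ.hom ≫ (a.hom.app (op Z) (yEq i.hom)).down) = _ at this
      rw [hq] at this
      exact congrArg ULift.down this
    rw [← h1, Over.comp_left]
    haveI : IsIso φ.hom.left := inferInstanceAs (IsIso ((Over.forget S).map φ.hom))
    exact (MorphismProperty.cancel_left_of_respectsIso @IsAffineHom φ.hom.left q.left).2 haff
  · haveI := isEquivalence_of_isEquivOver he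
    let z := e.toFunctor.objPreimage η
    let k : e.obj z ≅ η := e.toFunctor.objObjPreimageIso η
    obtain ⟨m, -, hm⟩ := exists_terminal i z
    refine ⟨k.inv ≫ e.map m, trivial, fun m' _ => ?_⟩
    obtain ⟨n, hn⟩ := e.toFunctor.map_surjective (k.hom ≫ m')
    rw [← hm n trivial, hn, Iso.inv_hom_id_assoc]

variable {ℬ : BasedCategory.{v₃, u₃} (Over S)} [IsFibGrpd ℬ.p]

/-- For every object of the source there is a universal lift of its pullbacks, over a scheme affine over its base. -/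
theorem exists_repr {f : 𝒳 ⥤ᵇ 𝒴} (hf : AlgSt.RepByAlgSpWith (AlgSp.RepWith @IsAffineHom) f)
    (bot : ℬ ⥤ᵇ 𝒴) (b : ℬ.obj) :
    ∃ (bZ : ℬ.obj) (φZ : bZ ⟶ b) (s : Sec f (bot.obj bZ)), IsAffineHom (ℬ.p.map φZ).left ∧
      ∀ (b' : ℬ.obj) (φ : b' ⟶ b) (t : Sec f (bot.obj b')),
        ∃! χ : b' ⟶ bZ, χ ≫ φZ = φ ∧ secRes f (bot.map χ) s = t := by
  let T := ℬ.p.obj b
  let fb : ℬ.p.Fiber T := ⟨b, rfl⟩
  let v : AlgSt.ofSch T ⥤ᵇ ℬ := BasedFunctor.comp (AlgSt.toOverCat T) (ofPoint fb)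
  let π : ∀ o : (AlgSt.ofSch T).obj, v.obj o ⟶ b := fun o => IsPreFibered.pullbackMap fb.2 o.sec.down
  have hπp : ∀ o, ℬ.p.map (π o) = eqToHom (v.w_obj o) ≫ o.sec.down := fun o => by
    haveI : ℬ.p.IsHomLift o.sec.down (π o) :=
      inferInstanceAs (ℬ.p.IsHomLift o.sec.down (IsPreFibered.pullbackMap fb.2 o.sec.down))
    rw [IsHomLift.fac' ℬ.p o.sec.down (π o)]
    simp
  have hπn : ∀ {o o' : (AlgSt.ofSch T).obj} (h : o ⟶ o'), v.map h ≫ π o' = π o := fun h =>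
    pbMap_fac fb h.hom (congrArg ULift.down h.map_sec)
  obtain ⟨η₀, haff, huniv⟩ := exists_terminal_fp hf (BasedFunctor.comp v bot)
  have hbase₀ : ∃ h, 𝒴.p.map η₀.obj.iso.hom = eqToHom h := by
    have hp : 𝒴.p.IsHomLift (𝟙 ((AlgSt.ofSch T).p.obj η₀.obj.fst)) η₀.obj.iso.hom := η₀.property
    refine ⟨((BasedFunctor.comp v bot).w_obj η₀.obj.fst).trans
      (@IsHomLift.codomain_eq _ _ _ _ 𝒴.p _ _ _ _ _ _ hp).symm, ?_⟩
    rw [@IsHomLift.fac' _ _ _ _ 𝒴.p _ _ _ _ _ _ hp]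
    simp
  let σ₀ : SecObj f (bot.obj (v.obj η₀.obj.fst)) := ⟨η₀.obj.snd, η₀.obj.iso.hom, _, hbase₀.choose_spec⟩
  refine ⟨v.obj η₀.obj.fst, π η₀.obj.fst, σ₀.cls, ?_, fun b' φ t => ?_⟩
  · rw [hπp, Over.comp_left]
    haveI : IsIso (eqToHom (v.w_obj η₀.obj.fst)).left :=
      inferInstanceAs (IsIso ((Over.forget S).map _))
    exact (MorphismProperty.cancel_left_of_respectsIso @IsAffineHom _ _).2 haff
  obtain ⟨σ, rfl⟩ := cls_surjective t
  let o : (AlgSt.ofSch T).obj := ⟨ℬ.p.obj b', ⟨ℬ.p.map φ⟩⟩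
  obtain ⟨κ, hκ, hκ'⟩ := exists_fac ℬ.p φ (π o) (eqToHom (v.w_obj o).symm) (by simp [hπp, o])
  haveI : IsIso κ := by
    haveI : IsIso (ℬ.p.map κ) := by rw [hκ]; infer_instance
    exact isIso_of_map ℬ.p κ
  let ε : (BasedFunctor.comp v bot).obj o ≅ f.obj σ.x := asIso (inv (bot.map κ) ≫ σ.hom)
  have hε : ∃ h, 𝒴.p.map ε.hom = eqToHom h := by
    refine ⟨((BasedFunctor.comp v bot).w_obj o).trans ((bot.w_obj b').symm.trans σ.eq), ?_⟩
    simp [ε, map_base bot, hκ, σ.base]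
  let η : (fp (BasedFunctor.comp v bot) f).obj := fpObj o σ.x ε
    (isHomLift_of_base (T := 𝒴) ε.hom ((BasedFunctor.comp v bot).w_obj o) _ hε.choose_spec)
  obtain ⟨m, -, hm⟩ := huniv η
  refine ⟨κ ≫ v.map m.hom.fst, ⟨by rw [Category.assoc, hπn, ← hκ'], ?_⟩, ?_⟩
  · refine secRes_cls_iff.2 ⟨m.hom.snd, ?_⟩
    have w : bot.map (v.map m.hom.fst) ≫ η₀.obj.iso.hom = (inv (bot.map κ) ≫ σ.hom) ≫ f.map m.hom.snd := m.hom.w
    rw [bot.toFunctor.map_comp, Category.assoc]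
    change _ = _ ≫ _ ≫ η₀.obj.iso.hom
    rw [w]; simp
  · rintro χ ⟨hχ, hres⟩
    obtain ⟨ψ, hψ⟩ := secRes_cls_iff.1 hres
    let h : o.base ⟶ η₀.obj.fst.base := ℬ.p.map χ ≫ eqToHom (v.w_obj η₀.obj.fst)
    have hsec : h ≫ η₀.obj.fst.sec.down = o.sec.down := by
      simp only [h, o, Category.assoc]
      rw [← hπp, ← Functor.map_comp, hχ]
    let h' : o ⟶ η₀.obj.fst := ⟨h, congrArg ULift.up hsec⟩
    have hv : χ = κ ≫ v.map h' := by
      refine hom_ext' ℬ.p (π η₀.obj.fst) _ _ ?_ ?_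
      · rw [Functor.map_comp, hκ, map_base v h']
        change _ = _ ≫ _ ≫ h ≫ _
        simp [h]
      · rw [Category.assoc, hπn, hχ, hκ']
    let m' : η ⟶ η₀ := fpHom h' ψ (by
      change bot.map (v.map h') ≫ η₀.obj.iso.hom = (inv (bot.map κ) ≫ σ.hom) ≫ f.map ψ
      rw [Category.assoc, IsIso.eq_inv_comp, hψ, hv, bot.toFunctor.map_comp, Category.assoc])
    rw [hv, ← hm m' trivial]
    rfl

omit [IsFibGrpd ℬ.p] in
/-- A functor representable by affine morphisms is faithful. -/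
theorem faithful_of_rep {f : 𝒳 ⥤ᵇ 𝒴} (hf : AlgSt.RepByAlgSpWith (AlgSp.RepWith @IsAffineHom) f) :
    f.toFunctor.Faithful := ⟨fun {x x'} ψ ψ' e => by
  have hp : 𝒳.p.map ψ = 𝒳.p.map ψ' := by
    have := congrArg 𝒴.p.map e
    rw [map_base f, map_base f] at this
    exact (cancel_mono _).1 ((cancel_epi _).1 this)
  let T := 𝒴.p.obj (f.obj x')
  let fb : 𝒴.p.Fiber T := ⟨f.obj x', rfl⟩
  let v : AlgSt.ofSch T ⥤ᵇ 𝒴 := BasedFunctor.comp (AlgSt.toOverCat T) (ofPoint fb)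
  obtain ⟨η₀, -, huniv⟩ := exists_terminal_fp hf v
  let o' : (AlgSt.ofSch T).obj := ⟨T, ⟨𝟙 T⟩⟩
  let π : v.obj o' ⟶ f.obj x' := IsPreFibered.pullbackMap fb.2 (𝟙 T)
  haveI : 𝒴.p.IsHomLift (𝟙 T) π :=
    inferInstanceAs (𝒴.p.IsHomLift (𝟙 T) (IsPreFibered.pullbackMap fb.2 (𝟙 T)))
  haveI : IsIso π := FibLib.isIso_of_isHomLift 𝒴.p (𝟙 T) π
  let η' : (fp v f).obj := fpObj o' x' (asIso π) ‹_›
  let o : (AlgSt.ofSch T).obj := ⟨𝒳.p.obj x, ⟨(eqToHom (f.w_obj x).symm ≫ 𝒴.p.map (f.map ψ))⟩⟩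
  obtain ⟨κ, hκ, hκ'⟩ := exists_fac 𝒴.p (f.map ψ)
    (IsPreFibered.pullbackMap fb.2 o.sec.down : v.obj o ⟶ f.obj x')
    (eqToHom ((f.w_obj x).trans (v.w_obj o).symm)) (by
      haveI : 𝒴.p.IsHomLift o.sec.down (IsPreFibered.pullbackMap fb.2 o.sec.down) := inferInstance
      rw [IsHomLift.fac' 𝒴.p o.sec.down (IsPreFibered.pullbackMap fb.2 o.sec.down)]
      simp [o])
  haveI : IsIso κ := by
    haveI : IsIso (𝒴.p.map κ) := by rw [hκ]; infer_instance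
    exact isIso_of_map 𝒴.p κ
  let η : (fp v f).obj := fpObj o x (asIso (inv κ))
    (isHomLift_of_base (T := 𝒴) (inv κ) (v.w_obj o) ((v.w_obj o).trans (f.w_obj x).symm)
      (by rw [Functor.map_inv]; simp [hκ]))
  let hh : o ⟶ o' := ⟨o.sec.down, congrArg ULift.up (Category.comp_id o.sec.down)⟩
  have hw : ∀ θ : x ⟶ x', f.map θ = f.map ψ → v.map hh ≫ π = inv κ ≫ f.map θ := fun θ hθ => by
    rw [IsIso.eq_inv_comp, hθ]
    refine Eq.trans ?_ hκ'
    exact congrArg (κ ≫ ·) (pbMap_fac fb hh.hom (Category.comp_id _))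
  let m : η ⟶ η' := fpHom hh ψ (hw ψ rfl)
  let m' : η ⟶ η' := fpHom hh ψ' (hw ψ' e.symm)
  obtain ⟨n, -, hn⟩ := huniv η
  obtain ⟨n', -, -⟩ := huniv η'
  have : m ≫ n' = m' ≫ n' := (hn _ trivial).trans (hn _ trivial).symm
  exact hom_ext' 𝒳.p n'.hom.snd ψ ψ' hp (congrArg (fun k => k.hom.snd) this)⟩

end LiftAffLib
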