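import Groth.Agent.LiftAffLib.Quot
import Groth.Agent.LiftAffLib.Rep
import Groth.Prelude.Def_ThetaS
import Mathlib.RingTheory.MvPolynomial.Basic
import Mathlib.RingTheory.Polynomial.Basic

/-!
# Unique lifting of affine morphisms against the punctured test stacks
-/

set_option autoImplicit false
set_option linter.all false
set_option backward.isDefEq.respectTransparency false
set_option backward.isDefEq.respectTransparency.types false

universe v₂ u₂ v₁ u₁ u

open CategoryTheory CategoryTheory.Limits MonoidalCategory CartesianMonoidalCategory AlgebraicGeometry Opposite FibCat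
open scoped TensorProduct

noncomputable section

namespace LiftAffLib

/-- Composing with a morphism of bases gives a category fibred in groupoids. -/
theorem isFibGrpd_map {S' S : Scheme.{u}} (h : S' ⟶ S) : IsFibGrpd (Over.map h) where
  exists_lift {x V} g := by
    have hw : g.left ≫ x.hom ≫ h = V.hom := Over.w g
    refine ⟨Over.mk (g.left ≫ x.hom), Over.homMk g.left rfl, IsHomLift.of_fac' _ _ _ ?_ rfl ?_⟩
    · exact congrArg Over.mk ((Category.assoc _ _ _).trans hw)
    · refine Over.OverMorphism.ext ?_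
      simp
  isStronglyCartesian {y x} φ := by
    refine { toIsHomLift := IsHomLift.map _ _, universal_property' := fun {a'} g φ' hφ' => ?_ }
    have e : g ≫ (Over.map h).map φ = (Over.map h).map φ' := by
      have := IsHomLift.fac' (Over.map h) (g ≫ (Over.map h).map φ) φ'
      simpa using this.symm
    have el : g.left ≫ φ.left = φ'.left := congrArg (fun k => k.left) e
    refine ⟨Over.homMk g.left ?_, ⟨?_, Over.OverMorphism.ext el⟩, fun χ hχ => ?_⟩
    · rw [← Over.w φ, ← Category.assoc, el, Over.w φ']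
    · exact IsHomLift.of_fac' _ _ _ rfl rfl (by apply Over.OverMorphism.ext; simp)
    · haveI := hχ.1
      have := IsHomLift.fac' (Over.map h) g χ
      apply Over.OverMorphism.ext
      simpa using congrArg (fun k => k.left) this

/-- An affine morphism lifts uniquely against a semi-regularly punctured quotient stack. -/
theorem liftsUniquely_quot {S' S : Scheme.{u}} (h : S' ⟶ S) {G X : Over S'} [GrpObj G] [IsAffineHom G.hom]
    [Flat G.hom] [LocallyOfFinitePresentation G.hom] [IsAffine X.left] {aX : AlgGrp.Action G X}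
    {a b : Γ(X.left, ⊤)} (H : SemiReg aX a b) {𝒳 : BasedCategory.{v₁, u₁} (Over S)}
    {𝒴 : BasedCategory.{v₂, u₂} (Over S)} [IsFibGrpd 𝒳.p] [IsFibGrpd 𝒴.p] (f : 𝒳 ⥤ᵇ 𝒴)
    (hf : AlgSt.RepByAlgSpWith (AlgSp.RepWith @IsAffineHom) f) :
    LiftSq.LiftsUniquely
      (AlgSt.subIncl (ThetaS.overS h (AlgSt.QuotSt Scheme.fppfPrecoverage G aX)) (Punct a b)) f := by
  haveI := faithful_of_rep hf
  haveI : IsFibGrpd (AlgSt.QuotObj.forget Scheme.fppfPrecoverage G aX) := QuotTransLib.isFibGrpd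
  haveI := isFibGrpd_map h
  haveI : IsFibGrpd (ThetaS.overS h (AlgSt.QuotSt Scheme.fppfPrecoverage G aX)).p :=
    FibLib.isFibGrpd_comp (AlgSt.QuotObj.forget Scheme.fppfPrecoverage G aX) (Over.map h)
  refine liftsUniquely_of_sections fun bot c₀ hc₀ => ?_
  let P : (AlgSt.QuotObj Scheme.fppfPrecoverage G aX)ᵒᵖ ⥤ Type _ := bot.toFunctor.op ⋙ secPsh f
  have hP : AffRep P := fun A => exists_repr hf bot A
  obtain ⟨c, ⟨hc, hcA⟩, hu⟩ := existsUnique_extend H hP (fun A hA => c₀ ⟨A, hA⟩)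
    (fun k hA hB => hc₀ ⟨_, hA⟩ ⟨_, hB⟩ (ObjectProperty.homMk k))
  exact ⟨c, ⟨hc, fun A => hcA A.obj A.property⟩, fun c' hc' => hu c' ⟨hc'.1, fun A hA => hc'.2 ⟨A, hA⟩⟩⟩

section Affine

variable {R : Type u} [CommRing R]

theorem pt_appTop {B K : Type u} [CommRing B] [CommRing K] [Algebra R B] [Algebra R K] (φ : B →ₐ[R] K) (q : B) :
    (CoactBr.pt φ).left.appTop ((Scheme.ΓSpecIso (CommRingCat.of B)).inv q) =
      (Scheme.ΓSpecIso (CommRingCat.of K)).inv (φ q) := by
  rw [CoactBr.pt_left]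
  exact (ConcreteCategory.congr_hom (Scheme.ΓSpecIso_inv_naturality (CommRingCat.ofHom φ.toRingHom)) q).symm

variable (R) in
/-- The spectrum of a tensor product is the product. -/
abbrev prodPt (A B : Type u) [CommRing A] [CommRing B] [Algebra R A] [Algebra R B] :
    CoactBr.sp R (A ⊗[R] B) ⟶ CoactBr.sp R A ⊗ CoactBr.sp R B :=
  lift (CoactBr.pt Algebra.TensorProduct.includeLeft) (CoactBr.pt Algebra.TensorProduct.includeRight)

theorem isIso_prodPt (A B : Type u) [CommRing A] [CommRing B] [Algebra R A] [Algebra R B] :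
    IsIso (prodPt R A B).left := by
  have e : (prodPt R A B).left = (pullbackSpecIso R A B).inv := by
    apply pullback.hom_ext
    · refine Eq.trans ?_ (pullbackSpecIso_inv_fst R A B).symm
      exact congrArg (fun k : CoactBr.sp R (A ⊗[R] B) ⟶ CoactBr.sp R A => k.left) (lift_fst _ _)
    · refine Eq.trans ?_ (pullbackSpecIso_inv_snd R A B).symm
      exact congrArg (fun k : CoactBr.sp R (A ⊗[R] B) ⟶ CoactBr.sp R B => k.left) (lift_snd _ _)
  rw [e]; infer_instance

variable {A B : Type u} [CommRing A] [CommRing B] [Algebra R A] [Algebra R B]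
  (act : CoactBr.sp R A ⊗ CoactBr.sp R B ⟶ CoactBr.sp R B) (α : B →ₐ[R] A ⊗[R] B)
  (hα : prodPt R A B ≫ act = CoactBr.pt α) {q : B}

include hα in
theorem basicOpen_act (u : (A ⊗[R] B)ˣ) (hq : α q = (u : A ⊗[R] B) * (1 ⊗ₜ[R] q)) :
    (CoactBr.sp R A ⊗ CoactBr.sp R B).left.basicOpen
        (act.left.appTop ((Scheme.ΓSpecIso (CommRingCat.of B)).inv q)) =
      (CoactBr.sp R A ⊗ CoactBr.sp R B).left.basicOpen
        ((snd (CoactBr.sp R A) (CoactBr.sp R B)).left.appTop ((Scheme.ΓSpecIso (CommRingCat.of B)).inv q)) := by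
  haveI := isIso_prodPt (R := R) A B
  rw [← preimage_bo, ← preimage_bo]
  have key : ∀ V W : (CoactBr.sp R A ⊗ CoactBr.sp R B).left.Opens,
      (prodPt R A B).left ⁻¹ᵁ V = (prodPt R A B).left ⁻¹ᵁ W → V = W := fun V W e => by
    refine SetLike.coe_injective
      (Function.Surjective.preimage_injective ((prodPt R A B).left.homeomorph).surjective ?_)
    exact congrArg SetLike.coe e
  refine key _ _ ?_
  rw [← Scheme.Hom.comp_preimage, ← Scheme.Hom.comp_preimage, ← Over.comp_left, ← Over.comp_left, hα, lift_snd,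
    preimage_bo, preimage_bo, pt_appTop, pt_appTop, hq, map_mul, Scheme.basicOpen_mul]
  have hu : (CoactBr.sp R (A ⊗[R] B)).left.basicOpen
      ((Scheme.ΓSpecIso (CommRingCat.of (A ⊗[R] B))).inv (u : A ⊗[R] B)) = ⊤ :=
    Scheme.basicOpen_of_isUnit _ (u.isUnit.map (Scheme.ΓSpecIso (CommRingCat.of (A ⊗[R] B))).inv.hom)
  rw [hu, top_inf_eq]
  rfl

theorem isRegular_of_left {B : Type*} [CommRing B] {x : B} (h : IsLeftRegular x) : IsRegular x :=
  ⟨h, fun c d e => h (show x * c = x * d by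
    have e' : c * x = d * x := e
    rw [mul_comm x, mul_comm x, e'])⟩

theorem isRegular_equiv {B C : Type*} [CommRing B] [CommRing C] (e : B ≃+* C) {q : B} (hq : IsRegular q) :
    IsRegular (e q) :=
  isRegular_of_left fun c d h => e.symm.injective (hq.left (show q * e.symm c = q * e.symm d by
    simpa using congrArg e.symm (show e q * c = e q * d from h)))

theorem isRegular_inv {B : Type u} [CommRing B] {q : B} (hq : IsRegular q) :
    IsRegular ((Scheme.ΓSpecIso (CommRingCat.of B)).inv q) :=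
  isRegular_equiv (Scheme.ΓSpecIso (CommRingCat.of B)).symm.commRingCatIsoToRingEquiv hq

theorem isRegular_snd [Module.Flat R A] (hq : IsRegular q) :
    IsRegular ((snd (CoactBr.sp R A) (CoactBr.sp R B)).left.appTop ((Scheme.ΓSpecIso (CommRingCat.of B)).inv q)) := by
  haveI := isIso_prodPt (R := R) A B
  have h1 : IsLeftRegular ((1 : A) ⊗ₜ[R] q) := by
    have inj := Module.Flat.lTensor_preserves_injective_linearMap (M := A) (LinearMap.mulLeft R q) hq.left
    intro x y e
    refine inj ?_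
    have he : ∀ z : A ⊗[R] B, (LinearMap.mulLeft R q).lTensor A z = (1 ⊗ₜ[R] q) * z := fun z => by
      induction z using TensorProduct.induction_on with
      | zero => simp
      | tmul c d => simp
      | add c d hc hd => simp [mul_add, hc, hd]
    rw [he, he]; exact e
  have h2 := isRegular_inv (isRegular_of_left h1)
  have e : (Scheme.ΓSpecIso (CommRingCat.of (A ⊗[R] B))).inv (1 ⊗ₜ[R] q) =
      (prodPt R A B).left.appTop
        ((snd (CoactBr.sp R A) (CoactBr.sp R B)).left.appTop ((Scheme.ΓSpecIso (CommRingCat.of B)).inv q)) := by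
    rw [← CommRingCat.comp_apply, ← Scheme.Hom.comp_appTop, ← Over.comp_left, lift_snd, pt_appTop]
    rfl
  rw [e] at h2
  let i := (asIso (prodPt R A B).left.appTop).commRingCatIsoToRingEquiv
  have := isRegular_equiv i.symm (q := i _) h2
  rwa [RingEquiv.symm_apply_apply] at this

theorem dvd_inv_iff {p q : B} :
    (Scheme.ΓSpecIso (CommRingCat.of B)).inv p ∣ (Scheme.ΓSpecIso (CommRingCat.of B)).inv q ↔ p ∣ q :=
  map_dvd_iff (Scheme.ΓSpecIso (CommRingCat.of B)).symm.commRingCatIsoToRingEquiv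

theorem hab_inv {a b : B} (h : ∀ x, a ∣ b * x → a ∣ x) :
    ∀ x, (Scheme.ΓSpecIso (CommRingCat.of B)).inv a ∣ (Scheme.ΓSpecIso (CommRingCat.of B)).inv b * x →
      (Scheme.ΓSpecIso (CommRingCat.of B)).inv a ∣ x := fun x hx => by
  obtain ⟨x, rfl⟩ := (Scheme.ΓSpecIso (CommRingCat.of B)).symm.commRingCatIsoToRingEquiv.surjective x
  rw [← Iso.symm_hom] at hx ⊢
  exact dvd_inv_iff.2 (h x (dvd_inv_iff.1 (by rw [map_mul]; exact hx)))

end Affine

section Gm

variable (R : Type u) [CommRing R]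

theorem isUnit_zPow (n : ℤ) : IsUnit (ThetaS.zPow R n) :=
  isUnit_iff_exists_inv.2 ⟨ThetaS.zPow R (-n), (ThetaS.zPow_mul R n (-n)).trans
    ((congrArg (ThetaS.zPow R) (add_neg_cancel n)).trans (ThetaS.zPow_zero R))⟩

instance free_lau : Module.Free R (ThetaS.Lau R) := Module.Free.of_basis (MonoidAlgebra.basis _ _)

theorem affine_gm : IsAffineHom (ThetaS.Gm R).hom := by
  change IsAffineHom (Spec.map _)
  infer_instance

theorem flat_gm : Flat (ThetaS.Gm R).hom :=
  (HasRingHomProperty.Spec_iff (P := @Flat) (φ := CommRingCat.ofHom (algebraMap R (ThetaS.Lau R)))).2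
    (RingHom.flat_algebraMap_iff.2 inferInstance)

theorem lfp_gm [IsNoetherianRing R] : LocallyOfFinitePresentation (ThetaS.Gm R).hom := by
  haveI : Monoid.FG (Multiplicative ℤ) := Monoid.fg_iff_add_fg.mpr inferInstance
  haveI : Algebra.FinitePresentation R (ThetaS.Lau R) := Algebra.FinitePresentation.of_finiteType.1 inferInstance
  exact (HasRingHomProperty.Spec_iff (P := @LocallyOfFinitePresentation)
    (φ := CommRingCat.ofHom (algebraMap R (ThetaS.Lau R)))).2 (RingHom.finitePresentation_algebraMap.2 ‹_›)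

end Gm

variable {R : Type u} [CommRing R] [IsDomain R]

open Polynomial in
/-- The two functions cutting out the origin of the line. -/
theorem semiReg_line {ϖ : R} (hϖ : ϖ ≠ 0) :
    SemiReg (ThetaS.lineAction R) (ThetaS.lineFn (X : R[X])) (ThetaS.lineFn (C ϖ)) := by
  let K := ThetaS.Lau R ⊗[R] R[X]
  let lam : ThetaS.Lau R →ₐ[R] K := Algebra.TensorProduct.includeLeft
  let t : K := 1 ⊗ₜ (X : R[X])
  have hr : (Algebra.TensorProduct.includeRight : R[X] →ₐ[R] K) = ThetaS.linePt t := by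
    apply Polynomial.algHom_ext; exact (Polynomial.aeval_X t).symm
  let α : R[X] →ₐ[R] K := ThetaS.linePt (lam (ThetaS.zPow R 1) * t)
  have hα : prodPt R (ThetaS.Lau R) R[X] ≫ (ThetaS.lineAction R).act = CoactBr.pt α := by
    unfold prodPt
    rw [hr]
    exact ThetaS.lineAction_pt lam t
  refine ⟨isRegular_inv (IsRegular.of_ne_zero X_ne_zero), isRegular_inv (IsRegular.of_ne_zero (C_ne_zero.2 hϖ)),
    hab_inv fun x hx => ?_, ?_, ?_, isRegular_snd (A := ThetaS.Lau R) (IsRegular.of_ne_zero X_ne_zero)⟩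
  · rw [Polynomial.X_dvd_iff, Polynomial.coeff_C_mul] at hx
    rw [Polynomial.X_dvd_iff]
    exact (mul_eq_zero.1 hx).resolve_left hϖ
  · exact basicOpen_act (ThetaS.lineAction R).act α hα
      ((isUnit_zPow R 1).map lam).unit (Polynomial.aeval_X _)
  · exact basicOpen_act (ThetaS.lineAction R).act α hα 1 (by
      rw [show α (C ϖ) = algebraMap R K ϖ from α.commutes ϖ, Units.val_one, one_mul]
      exact ((Algebra.TensorProduct.includeRight : R[X] →ₐ[R] K).commutes ϖ).symm)

section ST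

open MvPolynomial

variable {π : R}

theorem mk_eq_iff (p q : MvPolynomial (Fin 2) R) :
    (Ideal.Quotient.mk _ p : ThetaS.STRing R π) = Ideal.Quotient.mk _ q ↔
      (X 0 * X 1 - C π : MvPolynomial (Fin 2) R) ∣ p - q := by
  rw [Ideal.Quotient.mk_eq_mk_iff_sub_mem, Ideal.mem_span_singleton]

theorem isRegular_X (hπ : π ≠ 0) (i : Fin 2) :
    IsRegular (Ideal.Quotient.mk _ (X i) : ThetaS.STRing R π) := by
  refine isRegular_of_left ?_
  rw [isLeftRegular_iff_right_eq_zero_of_mul]
  intro x hx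
  obtain ⟨p, rfl⟩ := Ideal.Quotient.mk_surjective x
  rw [← map_mul, Ideal.Quotient.eq_zero_iff_mem, Ideal.mem_span_singleton] at hx
  rw [Ideal.Quotient.eq_zero_iff_mem, Ideal.mem_span_singleton]
  obtain ⟨c, hc⟩ := hx
  have hX : Prime (X i : MvPolynomial (Fin 2) R) := MvPolynomial.X_prime
  have hn : ¬(X i : MvPolynomial (Fin 2) R) ∣ X 0 * X 1 - C π := fun hd => hπ (by
    obtain ⟨d, hd⟩ := hd
    have := congrArg constantCoeff hd
    simpa using this)
  obtain ⟨c', rfl⟩ := (hX.dvd_or_dvd (Dvd.intro p hc)).resolve_left hn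
  exact ⟨c', mul_left_cancel₀ hX.ne_zero (by rw [hc]; ring)⟩

/-- Setting the first variable to zero. -/
abbrev σ₀ : MvPolynomial (Fin 2) R →ₐ[R] MvPolynomial (Fin 2) R := aeval ![0, X 1]

theorem X_dvd_sub_σ₀ (p : MvPolynomial (Fin 2) R) : X 0 ∣ p - σ₀ p := by
  induction p using MvPolynomial.induction_on with
  | C a => simp
  | add p q hp hq =>
    rw [map_add, add_sub_add_comm]; exact dvd_add hp hq
  | mul_X p i hp =>
    rw [map_mul]
    fin_cases i
    · simp
    · have : p * X 1 - σ₀ p * X 1 = (p - σ₀ p) * X 1 := (sub_mul _ _ _).symm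
      have h := hp.mul_right (X 1)
      rw [← this] at h
      simpa using h

theorem hab_st (hπ : Prime π) (x : ThetaS.STRing R π) (hx : ThetaS.sFn R π ∣ ThetaS.tFn R π * x) :
    ThetaS.sFn R π ∣ x := by
  obtain ⟨p, rfl⟩ := Ideal.Quotient.mk_surjective x
  obtain ⟨y, hy⟩ := hx
  obtain ⟨q, rfl⟩ := Ideal.Quotient.mk_surjective y
  rw [← map_mul, ← map_mul, mk_eq_iff] at hy
  obtain ⟨c, hc⟩ := hy
  have e := congrArg σ₀ hc
  simp at e
  have hC : Prime (C π : MvPolynomial (Fin 2) R) := (MvPolynomial.prime_C_iff _).2 hπ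
  have hn : ¬(C π : MvPolynomial (Fin 2) R) ∣ X 1 := fun hd => hπ.not_unit (isUnit_of_dvd_one (by
    obtain ⟨d, hd⟩ := hd
    refine ⟨coeff (Finsupp.single 1 1) d, ?_⟩
    have := congrArg (coeff (Finsupp.single (1 : Fin 2) 1)) hd
    simpa [coeff_C_mul] using this))
  obtain ⟨d, hd⟩ := (hC.dvd_or_dvd (⟨-σ₀ c, e.trans (mul_neg _ _).symm⟩ : C π ∣ X 1 * σ₀ p)).resolve_left hn
  obtain ⟨w, hw⟩ := X_dvd_sub_σ₀ p
  refine ⟨Ideal.Quotient.mk _ (w + X 1 * d), ?_⟩
  rw [← map_mul, mk_eq_iff]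
  exact ⟨-d, by linear_combination hw + hd⟩

theorem exists_act_pt {K : Type u} [CommRing K] [Algebra R K] (lam : ThetaS.Lau R →ₐ[R] K)
    (φ : ThetaS.STRing R π →ₐ[R] K) :
    ∃ α : ThetaS.STRing R π →ₐ[R] K,
      lift (CoactBr.pt lam) (CoactBr.pt φ) ≫ (ThetaS.stAction R π).act = CoactBr.pt α ∧
      α (ThetaS.sFn R π) = lam (ThetaS.zPow R 1) * φ (ThetaS.sFn R π) ∧
      α (ThetaS.tFn R π) = lam (ThetaS.zPow R (-1)) * φ (ThetaS.tFn R π) := by
  have hab : φ (ThetaS.sFn R π) * φ (ThetaS.tFn R π) = algebraMap R K π := by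
    rw [← map_mul, ThetaS.sFn_mul_tFn, φ.commutes]
  have hr : φ = ThetaS.stPt _ _ hab := by
    apply ThetaS.stRing_algHom_ext <;> simp
  have hp := ThetaS.stAction_pt lam _ _ hab
  rw [← hr] at hp
  exact ⟨_, hp, ThetaS.stPt_sFn _ _ _, ThetaS.stPt_tFn _ _ _⟩

theorem semiReg_st (hπ : Prime π) :
    SemiReg (ThetaS.stAction R π) (ThetaS.stFn (ThetaS.sFn R π)) (ThetaS.stFn (ThetaS.tFn R π)) := by
  obtain ⟨α, hα, hs, ht⟩ := exists_act_pt (R := R) (π := π) (K := ThetaS.Lau R ⊗[R] ThetaS.STRing R π)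
    (Algebra.TensorProduct.includeLeft : ThetaS.Lau R →ₐ[R] ThetaS.Lau R ⊗[R] ThetaS.STRing R π)
    Algebra.TensorProduct.includeRight
  refine ⟨isRegular_inv (isRegular_X hπ.ne_zero 0), isRegular_inv (isRegular_X hπ.ne_zero 1),
    hab_inv (hab_st hπ), ?_, ?_, isRegular_snd (A := ThetaS.Lau R) (isRegular_X hπ.ne_zero 0)⟩
  · exact basicOpen_act (ThetaS.stAction R π).act α hα
      ((isUnit_zPow R 1).map (Algebra.TensorProduct.includeLeft :
        ThetaS.Lau R →ₐ[R] ThetaS.Lau R ⊗[R] ThetaS.STRing R π)).unit hs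
  · exact basicOpen_act (ThetaS.stAction R π).act α hα
      ((isUnit_zPow R (-1)).map (Algebra.TensorProduct.includeLeft :
        ThetaS.Lau R →ₐ[R] ThetaS.Lau R ⊗[R] ThetaS.STRing R π)).unit ht

end ST

section Main

variable {S : Scheme.{u}} {𝒳 : BasedCategory.{v₁, u₁} (Over S)} {𝒴 : BasedCategory.{v₂, u₂} (Over S)}
  [IsFibGrpd 𝒳.p] [IsFibGrpd 𝒴.p] {f : 𝒳 ⥤ᵇ 𝒴}

theorem isThetaReductive_of_affine (hf : AlgSt.RepByAlgSpWith (AlgSp.RepWith @IsAffineHom) f) :
    ThetaS.IsThetaReductive Scheme.fppfPrecoverage f := by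
  intro R _ _ _ ϖ hϖ h
  haveI := affine_gm R
  haveI := flat_gm R
  haveI := lfp_gm R
  haveI : IsAffine (ThetaS.Line R).left := inferInstanceAs (IsAffine (Spec _))
  exact liftsUniquely_quot h (semiReg_line hϖ.ne_zero) f hf

theorem isSComplete_of_affine (hf : AlgSt.RepByAlgSpWith (AlgSp.RepWith @IsAffineHom) f) :
    ThetaS.IsSComplete Scheme.fppfPrecoverage f := by
  intro R _ _ _ π hπ h
  haveI := affine_gm R
  haveI := flat_gm R
  haveI := lfp_gm R
  haveI : IsAffine (ThetaS.STSch R π).left := inferInstanceAs (IsAffine (Spec _))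
  exact liftsUniquely_quot h (semiReg_st hπ.prime) f hf

end Main

end LiftAffLib
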